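import Mathlib

/-!
# Permutations of `ι × ZMod p` that are affine on every block
-/

set_option autoImplicit false
set_option linter.unusedSectionVars false

open Equiv

namespace CfsgLib.AltFus

variable {ι : Type*} {p : ℕ}

/-- `(b, i) ↦ (σ b, u b * i + f b)`. -/
def aff (f : ι → ZMod p) (u : ι → (ZMod p)ˣ) (σ : Perm ι) : Perm (ι × ZMod p) where
  toFun x := (σ x.1, (u x.1 : ZMod p) * x.2 + f x.1)
  invFun x := (σ.symm x.1, ((u (σ.symm x.1))⁻¹ : (ZMod p)ˣ) * (x.2 - f (σ.symm x.1)))
  left_inv x := by simp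
  right_inv x := by simp

@[simp]
theorem aff_apply (f : ι → ZMod p) (u : ι → (ZMod p)ˣ) (σ : Perm ι) (x : ι × ZMod p) :
    aff f u σ x = (σ x.1, (u x.1 : ZMod p) * x.2 + f x.1) := rfl

theorem aff_mul (f f' : ι → ZMod p) (u u' : ι → (ZMod p)ˣ) (σ σ' : Perm ι) :
    aff f u σ * aff f' u' σ' =
      aff (fun b => (u (σ' b) : ZMod p) * f' b + f (σ' b)) (fun b => u (σ' b) * u' b) (σ * σ') :=
  Equiv.ext fun x => by
    simp [Perm.mul_apply, Prod.ext_iff]
    ring

theorem aff_one : aff (0 : ι → ZMod p) 1 1 = 1 := Equiv.ext fun x => by simp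

/-- Translations. -/
def tr (f : ι → ZMod p) : Perm (ι × ZMod p) := aff f 1 1

/-- Multiplications. -/
def mu : (ι → (ZMod p)ˣ) →* Perm (ι × ZMod p) where
  toFun u := aff 0 u 1
  map_one' := aff_one
  map_mul' u v := Equiv.ext fun x => by simp [Perm.mul_apply, mul_assoc]

/-- Block permutations. -/
def bl : Perm ι →* Perm (ι × ZMod p) where
  toFun σ := aff 0 1 σ
  map_one' := aff_one
  map_mul' σ τ := Equiv.ext fun x => by simp [Perm.mul_apply]

theorem tr_apply (f : ι → ZMod p) (x : ι × ZMod p) : tr f x = (x.1, x.2 + f x.1) := by simp [tr]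

theorem mu_apply (u : ι → (ZMod p)ˣ) (x : ι × ZMod p) : mu u x = (x.1, (u x.1 : ZMod p) * x.2) := by
  simp [mu]

theorem bl_apply (σ : Perm ι) (x : ι × ZMod p) : bl σ x = (σ x.1, x.2) := by simp [bl]

theorem tr_zero : tr (0 : ι → ZMod p) = 1 := aff_one

theorem tr_add (f g : ι → ZMod p) : tr (f + g) = tr f * tr g :=
  Equiv.ext fun x => by simp [Perm.mul_apply, tr_apply]; ring

theorem tr_neg (f : ι → ZMod p) : tr (-f) = (tr f)⁻¹ :=
  eq_inv_of_mul_eq_one_left (by rw [← tr_add, neg_add_cancel, tr_zero])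

theorem tr_nsmul (k : ℕ) (f : ι → ZMod p) : tr (k • f) = tr f ^ k := by
  induction k with
  | zero => rw [zero_nsmul, tr_zero, pow_zero]
  | succ k ih => rw [succ_nsmul, tr_add, ih, pow_succ]

theorem tr_pow_prime (f : ι → ZMod p) : tr f ^ p = 1 := by
  rw [← tr_nsmul, show (p : ℕ) • f = 0 from funext fun b => by simp, tr_zero]

theorem tr_injective : Function.Injective (tr (ι := ι) (p := p)) := fun f g h => by
  funext b
  have := congrArg Prod.snd (Equiv.congr_fun h (b, 0))
  simpa [tr_apply] using this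

/-- An affine permutation is a product of the three kinds. -/
theorem aff_eq (f : ι → ZMod p) (u : ι → (ZMod p)ˣ) (σ : Perm ι) :
    aff f u σ = bl σ * tr f * mu u :=
  Equiv.ext fun x => by simp [Perm.mul_apply, tr_apply, mu_apply, bl_apply]

theorem bl_mul_tr (σ : Perm ι) (f : ι → ZMod p) :
    bl σ * tr f = tr (f ∘ σ.symm) * bl σ :=
  Equiv.ext fun x => by simp [Perm.mul_apply, tr_apply, bl_apply]

theorem mu_mul_tr (u : ι → (ZMod p)ˣ) (f : ι → ZMod p) :
    mu u * tr f = tr (fun b => (u b : ZMod p) * f b) * mu u :=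
  Equiv.ext fun x => by simp [Perm.mul_apply, tr_apply, mu_apply]; ring

theorem bl_mul_mu (σ : Perm ι) (u : ι → (ZMod p)ˣ) :
    bl σ * mu u = mu (u ∘ σ.symm) * bl (p := p) σ :=
  Equiv.ext fun x => by simp [Perm.mul_apply, mu_apply, bl_apply]

theorem conj_tr (f : ι → ZMod p) (u : ι → (ZMod p)ˣ) (σ : Perm ι) (g : ι → ZMod p) :
    aff f u σ * tr g * (aff f u σ)⁻¹ = tr (fun b => (u (σ.symm b) : ZMod p) * g (σ.symm b)) := by
  rw [mul_inv_eq_iff_eq_mul]
  refine Equiv.ext fun x => ?_
  simp [Perm.mul_apply, tr_apply]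
  ring

theorem bl_injective [NeZero p] : Function.Injective (bl (ι := ι) (p := p)) := fun σ τ h =>
  Equiv.ext fun b => by
    have := congrArg Prod.fst (Equiv.congr_fun h (b, 0))
    simpa [bl_apply] using this

theorem aff_inj {f f' : ι → ZMod p} {u u' : ι → (ZMod p)ˣ} {σ σ' : Perm ι}
    (h : aff f u σ = aff f' u' σ') : f = f' ∧ u = u' ∧ σ = σ' := by
  have hf : f = f' := funext fun b => by
    simpa using congrArg Prod.snd (Equiv.congr_fun h (b, 0))
  subst hf
  refine ⟨rfl, funext fun b => Units.ext ?_, Equiv.ext fun b => ?_⟩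
  · simpa using congrArg Prod.snd (Equiv.congr_fun h (b, 1))
  · simpa using congrArg Prod.fst (Equiv.congr_fun h (b, 0))

section Finite

variable [Fintype ι] [DecidableEq ι] [Fact p.Prime]

/-- The sign of multiplication by a unit on `ZMod p`. -/
def eps : (ZMod p)ˣ →* ℤˣ :=
  Perm.sign.comp (MulAction.toPermHom (ZMod p)ˣ (ZMod p))

theorem eps_apply (a : (ZMod p)ˣ) : eps a = Perm.sign (MulAction.toPerm a : Perm (ZMod p)) := rfl

theorem tr_support (f : ι → ZMod p) :
    (tr f).support = (Finset.univ.filter fun b => f b ≠ 0) ×ˢ Finset.univ := by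
  ext x
  simp [Perm.mem_support, tr_apply, Prod.ext_iff]

theorem card_tr_support (f : ι → ZMod p) :
    (tr f).support.card = (Finset.univ.filter fun b => f b ≠ 0).card * p := by
  rw [tr_support, Finset.card_product, Finset.card_univ, ZMod.card]

theorem sign_bl (σ : Perm ι) : Perm.sign (bl (p := p) σ) = Perm.sign σ ^ p := by
  have : bl (p := p) σ = Equiv.prodCongrLeft fun _ : ZMod p => σ :=
    Equiv.ext fun x => by simp [bl_apply, Equiv.prodCongrLeft]
  rw [this, Perm.sign_prodCongrLeft, Finset.prod_const, Finset.card_univ, ZMod.card]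

theorem sign_bl_of_ne_two (hp : p ≠ 2) (σ : Perm ι) :
    Perm.sign (bl (p := p) σ) = Perm.sign σ := by
  rw [sign_bl]
  obtain ⟨k, hk⟩ := (Fact.out : p.Prime).odd_of_ne_two hp
  rcases Int.units_eq_one_or (Perm.sign σ) with h | h <;> simp [h, hk, pow_add, pow_mul]

theorem sign_mu (u : ι → (ZMod p)ˣ) : Perm.sign (mu u) = eps (∏ b, u b) := by
  have h1 : ∀ (b : ι) (a : (ZMod p)ˣ), Perm.sign (mu (Pi.mulSingle b a)) = eps a := by
    intro b a
    rw [eps_apply, ← Perm.sign_prodExtendRight b (MulAction.toPerm a : Perm (ZMod p))]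
    congr 1
    refine Equiv.ext fun ⟨c, i⟩ => ?_
    rw [mu_apply]
    by_cases h : c = b
    · subst h
      simp [Perm.prodExtendRight_apply_eq, Units.smul_def]
    · simp [Perm.prodExtendRight_apply_ne _ h, Pi.mulSingle_eq_of_ne h]
  show (Perm.sign.comp (mu (ι := ι) (p := p))) u = _
  conv_lhs => rw [← Finset.univ_prod_mulSingle u]
  rw [map_prod, map_prod]
  exact Finset.prod_congr rfl fun b _ => h1 b (u b)

theorem sign_tr_of_ne_two (hp : p ≠ 2) (f : ι → ZMod p) : Perm.sign (tr f) = 1 := by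
  have h := congrArg Perm.sign (tr_pow_prime f)
  rw [map_pow, map_one] at h
  obtain ⟨k, hk⟩ := (Fact.out : p.Prime).odd_of_ne_two hp
  rcases Int.units_eq_one_or (Perm.sign (tr f)) with h' | h'
  · exact h'
  · rw [h', hk, pow_add, pow_mul] at h
    simp at h

theorem sign_aff_of_ne_two (hp : p ≠ 2) (f : ι → ZMod p) (u : ι → (ZMod p)ˣ) (σ : Perm ι) :
    Perm.sign (aff f u σ) = Perm.sign σ * eps (∏ b, u b) := by
  rw [aff_eq, map_mul, map_mul, sign_bl_of_ne_two hp, sign_tr_of_ne_two hp, sign_mu, mul_one]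

end Finite

/-- An affine permutation that moves a block moves at least two of them entirely. -/
theorem aff_moves {f : ι → ZMod p} {u : ι → (ZMod p)ˣ} {σ : Perm ι} {b : ι} (h : σ b ≠ b)
    (i : ZMod p) : aff f u σ (b, i) ≠ (b, i) := fun e => h (by simpa using congrArg Prod.fst e)

end CfsgLib.AltFus
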