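import Cfsg.Agent.Lib.Fusion.Alternating.Sylow

/-!
# Sylow 2-subgroups of symmetric and alternating groups are self-normalizing
-/

set_option autoImplicit false
set_option linter.unusedSectionVars false

open Equiv
open scoped Pointwise

namespace CfsgLib.AltFus

theorem eq_swap_of_card_support {α : Type*} [Fintype α] [DecidableEq α] {t : Perm α} {x : α}
    (h : t.support.card = 2) (hx : t x ≠ x) : t = Equiv.swap x (t x) := by
  obtain ⟨a, b, hab, rfl⟩ := Perm.card_support_eq_two.1 h
  rcases eq_or_ne x a with rfl | hxa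
  · rw [Equiv.swap_apply_left]
  rcases eq_or_ne x b with rfl | hxb
  · rw [Equiv.swap_apply_right, Equiv.swap_comm]
  exact absurd (Equiv.swap_apply_of_ne_of_ne hxa hxb) hx

variable {ι R Y : Type*} {p : ℕ} [Fintype ι] [DecidableEq ι] [Fintype R] [DecidableEq R]
  [Fintype Y] [DecidableEq Y] [Fact p.Prime]

theorem pair_subset_support {f : ι → ZMod p} {u : ι → (ZMod p)ˣ} {σ : Perm ι} {a : ι} (h : σ a ≠ a) :
    ({a, σ a} : Finset ι) ×ˢ (Finset.univ : Finset (ZMod p)) ⊆ (aff f u σ).support := by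
  rintro ⟨c, i⟩ hc
  rw [Finset.mem_product, Finset.mem_insert, Finset.mem_singleton] at hc
  rw [Perm.mem_support]
  rcases hc.1 with rfl | rfl
  · exact aff_moves h i
  · exact aff_moves (fun e => h (σ.injective e)) i

theorem two_mul_le_card_support {f : ι → ZMod p} {u : ι → (ZMod p)ˣ} {σ : Perm ι} (h : σ ≠ 1) :
    2 * p ≤ (aff f u σ).support.card := by
  obtain ⟨a, ha⟩ : ∃ a, σ a ≠ a := by
    by_contra hne
    exact h (Equiv.ext fun a => by_contra fun ha => hne ⟨a, ha⟩)
  refine le_trans (le_of_eq ?_) (Finset.card_le_card (pair_subset_support (f := f) (u := u) ha))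
  rw [Finset.card_product, Finset.card_pair (Ne.symm ha), Finset.card_univ, ZMod.card]

variable (e : (ι × ZMod p) ⊕ R ≃ Y)

/-- Small elements of the wreath product are translations. -/
theorem exists_eq_trY {Q : Subgroup (Perm ι)} {x : Perm Y} (hx : x ∈ (wr Q).map (pm e))
    (hc : x.support.card < 2 * p) : ∃ f, x = trY e f := by
  obtain ⟨_, ⟨f, σ, -, rfl⟩, rfl⟩ := hx
  refine ⟨f, ?_⟩
  by_cases h : σ = 1
  · rw [h]; rfl
  · rw [card_support_pm] at hc
    exact absurd (two_mul_le_card_support h) (not_le.2 hc)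

theorem zmod_two_eq_one : ∀ x : ZMod 2, x ≠ 0 → x = 1 := by decide

theorem units_zmod_two (u : (ZMod 2)ˣ) : u = 1 :=
  Units.ext (zmod_two_eq_one _ u.ne_zero)

/-- An affine normalizer has block part in the normalizer of `Q`. -/
theorem mem_normalizer_of_conj {Q : Subgroup (Perm ι)} {f : ι → ZMod p} {u : ι → (ZMod p)ˣ}
    {σ : Perm ι} (h : ∀ q ∈ Q, ∀ f₁ : ι → ZMod p, pm e (aff f₁ 1 q) ∈ (wr Q).map (pm e) →
      Perm.sign (pm e (aff f₁ 1 q)) = 1 →
      pm e (aff f u σ) * pm e (aff f₁ 1 q) * (pm e (aff f u σ))⁻¹ ∈ (wr Q).map (pm e))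
    (heven : ∀ q ∈ Q, Perm.sign (bl (p := p) q) = 1) :
    σ ∈ Subgroup.normalizer (Q : Set (Perm ι)) := by
  have key : ∀ q ∈ Q, σ * q * σ⁻¹ ∈ Q := by
    intro q hq
    obtain ⟨_, ⟨f₂, σ₂, hσ₂, rfl⟩, he⟩ := h q hq 0 (Subgroup.mem_map_of_mem _ (bl_mem_wr hq))
      (by rw [sign_pm]; exact heven q hq)
    rw [eq_mul_inv_iff_mul_eq, ← map_mul, ← map_mul] at he
    have h3 := (aff_inj ((aff_mul _ _ _ _ _ _).symm.trans ((pm_injective e he).trans
      (aff_mul _ _ _ _ _ _)))).2.2
    rwa [← h3, mul_inv_cancel_right]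
  refine Subgroup.mem_normalizer_iff.2 fun q => ⟨key q, fun hq => ?_⟩
  have hfin : (Q.map (MulAut.conj σ).toMonoidHom) = Q := by
    refine Subgroup.eq_of_le_of_card_ge ?_ (le_of_eq ?_)
    · rintro _ ⟨x, hx, rfl⟩
      exact key x hx
    · exact (Subgroup.card_map_of_injective (MulAut.conj σ).injective).symm
  have hq' : MulAut.conj σ q ∈ Q.map (MulAut.conj σ).toMonoidHom := hfin.symm ▸ hq
  obtain ⟨x, hx, hxe⟩ := hq'
  exact (MulAut.conj σ).injective hxe ▸ hx

/-- A Sylow 2-subgroup of a finite symmetric group is self-normalizing. -/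
theorem sylow_perm_two_normalizer : ∀ (n : ℕ) (Y : Type) [Fintype Y] [DecidableEq Y],
    Fintype.card Y = n → ∀ P : Sylow 2 (Perm Y),
      Subgroup.normalizer ((P : Subgroup (Perm Y)) : Set (Perm Y)) ≤ (P : Subgroup (Perm Y)) := by
  intro n
  induction n using Nat.strong_induction_on with
  | _ n ih =>
  intro Y _ _ hn P
  haveI : Fact (Nat.Prime 2) := ⟨Nat.prime_two⟩
  rcases Nat.eq_zero_or_pos n with h0 | h0
  · haveI : IsEmpty Y := Fintype.card_eq_zero_iff.1 (hn.trans h0)
    intro x _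
    rw [Subsingleton.elim x 1]
    exact one_mem _
  let e : (Fin (n / 2) × ZMod 2) ⊕ Fin (n % 2) ≃ Y := Fintype.equivOfCardEq (by
    rw [Fintype.card_sum, Fintype.card_prod, Fintype.card_fin, Fintype.card_fin, ZMod.card, hn,
      mul_comm]
    exact Nat.div_add_mod n 2)
  haveI : Subsingleton (Fin (n % 2)) := Fin.subsingleton_iff_le_one.2 (by omega)
  obtain ⟨Q⟩ : Nonempty (Sylow 2 (Perm (Fin (n / 2)))) := inferInstance
  obtain ⟨P₀, hP₀⟩ := exists_sylow_wr e (by rw [Fintype.card_fin]; omega) Q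
  have key : Subgroup.normalizer ((P₀ : Subgroup (Perm Y)) : Set (Perm Y)) ≤
      (P₀ : Subgroup (Perm Y)) := by
    intro g hg
    have hconj : ∀ x ∈ (wr (Q : Subgroup (Perm (Fin (n / 2))))).map (pm e),
        g * x * g⁻¹ ∈ (wr (Q : Subgroup (Perm (Fin (n / 2))))).map (pm e) := fun x hx => by
      have h1 := (Subgroup.mem_normalizer_iff.1 hg x).1 (by rw [hP₀]; exact hx)
      rwa [hP₀] at h1
    obtain ⟨f, u, σ, rfl⟩ := exists_aff_of_normalizes e (g := g) fun b => by
      refine exists_eq_trY e (hconj _ (Subgroup.mem_map_of_mem _ (tr_mem_wr _))) ?_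
      rw [Perm.card_support_conj, card_support_trY,
        show (Finset.univ.filter fun c => Pi.single (M := fun _ => ZMod 2) b 1 c ≠ 0) = {b} by
          ext c; simp [Pi.single_apply], Finset.card_singleton]
      norm_num
    obtain rfl : u = 1 := funext fun b => units_zmod_two (u b)
    have hσ := mem_normalizer_of_conj e (Q := (Q : Subgroup (Perm (Fin (n / 2))))) (f := f) (u := 1)
      (σ := σ) (fun q _ f₁ hm _ => hconj _ hm) fun q _ => by rw [sign_bl]; exact Int.units_pow_two _
    rw [hP₀]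
    exact Subgroup.mem_map_of_mem _
      ⟨f, σ, ih _ (Nat.div_lt_self h0 one_lt_two) _ (Fintype.card_fin _) Q hσ, rfl⟩
  obtain ⟨a, ha⟩ := MulAction.exists_smul_eq (Perm Y) P₀ P
  intro g hg
  rw [← ha, Sylow.coe_subgroup_smul] at hg ⊢
  have h1 : a⁻¹ * g * a ∈ Subgroup.normalizer ((P₀ : Subgroup (Perm Y)) : Set (Perm Y)) := by
    refine Subgroup.mem_normalizer_iff.2 fun x => ?_
    have h2 := Subgroup.mem_normalizer_iff.1 hg (a * x * a⁻¹)
    have hiff : ∀ z, a * z * a⁻¹ ∈ MulAut.conj a • (P₀ : Subgroup (Perm Y)) ↔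
        z ∈ (P₀ : Subgroup (Perm Y)) := fun z => Subgroup.smul_mem_pointwise_smul_iff
    rw [hiff, show g * (a * x * a⁻¹) * g⁻¹ = a * (a⁻¹ * g * a * x * (a⁻¹ * g * a)⁻¹) * a⁻¹ by group,
      hiff] at h2
    exact h2
  have h3 := Subgroup.smul_mem_pointwise_smul _ (MulAut.conj a) _ (key h1)
  rwa [MulAut.smul_def, MulAut.conj_apply, show a * (a⁻¹ * g * a) * a⁻¹ = g by group] at h3

/-- The Sylow 2-subgroup of the alternating group is self-normalizing. -/
theorem alt_two_normalizer {ι R Y : Type*} [Fintype ι] [DecidableEq ι] [Fintype R] [DecidableEq R]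
    [Fintype Y] [DecidableEq Y] [Fact (Nat.Prime 2)] [Subsingleton R] (e : (ι × ZMod 2) ⊕ R ≃ Y)
    (h3 : 3 ≤ Fintype.card ι) {Q : Subgroup (Perm ι)}
    (hQ : Subgroup.normalizer (Q : Set (Perm ι)) ≤ Q)
    {S : Subgroup (alternatingGroup Y)}
    (hS : ∀ x : alternatingGroup Y, x ∈ S ↔ (x : Perm Y) ∈ (wr Q).map (pm e)) :
    Subgroup.normalizer (S : Set (alternatingGroup Y)) ≤ S := by
  classical
  intro g hg
  have hconj : ∀ x ∈ (wr Q).map (pm e), Perm.sign x = 1 →
      (g : Perm Y) * x * (g : Perm Y)⁻¹ ∈ (wr Q).map (pm e) := fun x hx hsx =>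
    (hS _).1 ((Subgroup.mem_normalizer_iff.1 hg ⟨x, Perm.mem_alternatingGroup.2 hsx⟩).1 ((hS _).2 hx))
  have hsingle : ∀ b : ι, (trY e (Pi.single b (1 : ZMod 2))).support.card = 2 := fun b => by
    rw [card_support_trY, show (Finset.univ.filter fun c => Pi.single (M := fun _ => ZMod 2) b 1 c ≠ 0)
      = {b} by ext c; simp [Pi.single_apply], Finset.card_singleton, one_mul]
  obtain ⟨f, u, σ, hgeq⟩ := exists_aff_of_normalizes e (g := (g : Perm Y)) fun b => by
    obtain ⟨c, d, hcb, hdb, hcd⟩ : ∃ c d : ι, c ≠ b ∧ d ≠ b ∧ c ≠ d := by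
      have h1 : 1 < (Finset.univ.erase b).card := by
        rw [Finset.card_erase_of_mem (Finset.mem_univ b), Finset.card_univ]; omega
      obtain ⟨c, hc, d, hd, hcd⟩ := Finset.one_lt_card.1 h1
      exact ⟨c, d, Finset.ne_of_mem_erase hc, Finset.ne_of_mem_erase hd, hcd⟩
    set t := (g : Perm Y) * trY e (Pi.single b (1 : ZMod 2)) * (g : Perm Y)⁻¹ with ht
    have ht2 : t.support.card = 2 := by rw [ht, Perm.card_support_conj, hsingle]
    set x := (g : Perm Y) (e (Sum.inl (b, 0))) with hxdef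
    set y := (g : Perm Y) (e (Sum.inl (b, 1))) with hydef
    have htx : t x = y := by
      simp [ht, hxdef, hydef, Perm.mul_apply, trY, tr_apply]
    have hxy : x ≠ y := fun he => by
      have := Sum.inl_injective (e.injective ((g : Perm Y).injective he))
      simp at this
    have hs : ∀ c, c ≠ b → ∃ f σ, σ ∈ Q ∧
        (g : Perm Y) * trY e (Pi.single b 1 + Pi.single c 1) * (g : Perm Y)⁻¹ = pm e (aff f 1 σ) ∧
        (aff f 1 σ).support.card = 4 ∧ pm e (aff f 1 σ) x = y ∧ pm e (aff f 1 σ) y = x := by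
      intro c hcb
      have hpair : (Finset.univ.filter fun i =>
          (Pi.single b (1 : ZMod 2) + Pi.single c 1 : ι → ZMod 2) i ≠ 0) = {b, c} := by
        ext i
        rcases eq_or_ne i b with rfl | h1 <;> rcases eq_or_ne i c with rfl | h2 <;>
          simp_all [Pi.single_apply]
      have hsign : Perm.sign (trY e (Pi.single b (1 : ZMod 2) + Pi.single c 1)) = 1 := by
        rw [trY_add, map_mul, Perm.IsSwap.sign_eq (Perm.card_support_eq_two.1 (hsingle b)),
          Perm.IsSwap.sign_eq (Perm.card_support_eq_two.1 (hsingle c))]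
        rfl
      obtain ⟨_, ⟨f, σ, hσ, rfl⟩, he⟩ := hconj _ (Subgroup.mem_map_of_mem _ (tr_mem_wr _)) hsign
      refine ⟨f, σ, hσ, he.symm, ?_, ?_, ?_⟩
      · rw [← card_support_pm e, he, Perm.card_support_conj, ← trY, card_support_trY, hpair,
          Finset.card_pair (Ne.symm hcb)]
      · rw [he]
        simp [hxdef, hydef, Perm.mul_apply, trY, tr_apply, Pi.single_eq_of_ne (Ne.symm hcb)]
      · rw [he]
        simp [hxdef, hydef, Perm.mul_apply, trY, tr_apply, Pi.single_eq_of_ne (Ne.symm hcb),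
          CharTwo.add_self_eq_zero]
    obtain ⟨f₁, σ₁, -, he₁, hc₁, hx₁, hy₁⟩ := hs c hcb
    obtain ⟨f₂, σ₂, -, he₂, hc₂, hx₂, hy₂⟩ := hs d hdb
    obtain ⟨zx, hzx⟩ := e.surjective x
    rcases zx with ⟨B, i⟩ | r
    swap
    · exfalso
      rw [← hzx, pm_inr, hzx] at hx₁
      exact hxy hx₁
    rw [← hzx, pm_inl] at hx₁ hx₂
    rw [← hzx] at hy₁ hy₂
    by_cases hB : σ₁ B = B
    · refine ⟨Pi.single B 1, ?_⟩
      have hy' : y = trY e (Pi.single B 1) x := by
        rw [← hzx, trY, pm_inl, ← hx₁]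
        congr 2
        simp [tr_apply, hB]
        have hne : f₁ B ≠ 0 := fun h0' => hxy (by rw [← hzx, ← hx₁]; simp [hB, h0'])
        exact zmod_two_eq_one _ hne
      have hty : t x ≠ x := by rw [htx]; exact hxy.symm
      rw [eq_swap_of_card_support ht2 hty, htx,
        eq_swap_of_card_support (hsingle B) (x := x) (by rw [← hy']; exact hxy.symm), ← hy']
    · exfalso
      have hne : pm e (aff f₁ 1 σ₁) ≠ pm e (aff f₂ 1 σ₂) := by
        rw [← he₁, ← he₂]
        intro h
        have h' := congrFun (trY_injective e (mul_left_cancel (mul_right_cancel h))) c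
        simp [Pi.single_eq_of_ne hcb, Pi.single_eq_of_ne hcd] at h'
      have hσB : σ₂ B = σ₁ B := by
        have := congrArg Prod.fst (Sum.inl_injective (e.injective (hx₂.trans hx₁.symm)))
        simpa using this
      have hfB : f₂ B = f₁ B := by
        have := congrArg Prod.snd (Sum.inl_injective (e.injective (hx₂.trans hx₁.symm)))
        simpa using this
      rw [← hx₁, pm_inl] at hy₁ hy₂
      have hback := Sum.inl_injective (e.injective (hy₁.trans hy₂.symm))
      simp only [aff_apply, Prod.mk.injEq, Pi.one_apply, Units.val_one, one_mul, add_right_inj] at hback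
      refine hne (congrArg (pm e) (Equiv.ext fun ⟨a, j⟩ => ?_))
      by_cases ha : a = B ∨ a = σ₁ B
      · rcases ha with rfl | rfl
        · simp [hσB, hfB]
        · simp [hback.1, hback.2]
      · have hsub : ∀ (f : ι → ZMod 2) (σ : Perm ι), σ B = σ₁ B → (aff f 1 σ).support.card = 4 →
            aff f 1 σ (a, j) = (a, j) := by
          intro f σ hσ hc
          have heq := Finset.eq_of_subset_of_card_le (pair_subset_support (f := f) (u := 1)
            (show σ B ≠ B from hσ ▸ hB)) (by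
              rw [Finset.card_product, Finset.card_pair (Ne.symm (hσ ▸ hB : σ B ≠ B)),
                Finset.card_univ, ZMod.card, hc])
          refine Perm.notMem_support.1 ?_
          rw [← heq]
          simp only [Finset.mem_product, Finset.mem_insert, Finset.mem_singleton, Finset.mem_univ,
            and_true, hσ]
          exact ha
        rw [hsub f₁ σ₁ rfl hc₁, hsub f₂ σ₂ hσB hc₂]
  obtain rfl : u = 1 := funext fun b => units_zmod_two (u b)
  have hσ : σ ∈ Q := hQ (mem_normalizer_of_conj e (f := f) (u := 1) (σ := σ)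
    (fun q _ f₁ hm hs => hgeq ▸ hconj _ hm hs)
    fun q _ => by rw [sign_bl]; exact Int.units_pow_two _)
  exact (hS g).2 (hgeq ▸ Subgroup.mem_map_of_mem _ ⟨f, σ, hσ, rfl⟩)

end CfsgLib.AltFus
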