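import Cfsg.Agent.Lib.Fusion.Alternating.Linear
import Cfsg.Agent.Lib.Fusion.Alternating.TwoNormalizer
import Cfsg.Agent.Lib.Fusion.System.SimpleGroupAutomizer

/-!
# The automizer of an odd Sylow subgroup of an alternating group
-/

set_option autoImplicit false
set_option linter.unusedSectionVars false
set_option linter.style.haveILetI false
set_option maxRecDepth 4000

open Equiv

namespace CfsgLib.AltFus

open CfsgLib.Fusion (autSub mem_autSub autSub_of_mem conj_mem_autSub autSub_of_centric)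

/-- Some unit acts as an odd permutation of `ZMod p`. -/
theorem exists_eps_neg (p : ℕ) [Fact p.Prime] (hp : p ≠ 2) : ∃ a : (ZMod p)ˣ, eps a = -1 := by
  obtain ⟨g, hg⟩ := IsCyclic.exists_generator (α := (ZMod p)ˣ)
  refine ⟨g, ?_⟩
  have hg1 : g ≠ 1 := by
    intro h
    have h1 : (-1 : (ZMod p)ˣ) ∈ Subgroup.zpowers g := hg _
    rw [h, Subgroup.zpowers_one_eq_bot, Subgroup.mem_bot, Units.ext_iff, Units.val_neg,
      Units.val_one] at h1
    have h3 : ((2 : ℕ) : ZMod p) = 0 := by push_cast; linear_combination -h1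
    rw [ZMod.natCast_eq_zero_iff] at h3
    exact hp ((Nat.prime_dvd_prime_iff_eq Fact.out Nat.prime_two).1 h3)
  have hg' : (g : ZMod p) ≠ 1 := fun h => hg1 (Units.ext h)
  set π : Perm (ZMod p) := MulAction.toPerm g with hπ
  have hmoved : ∀ y : ZMod p, π y ≠ y ↔ y ≠ 0 := by
    intro y
    rw [hπ, MulAction.toPerm_apply, Units.smul_def, smul_eq_mul, ne_eq, ne_eq, not_iff_not]
    refine ⟨fun h => ?_, fun h => by rw [h, mul_zero]⟩
    have h' : ((g : ZMod p) - 1) * y = 0 := by linear_combination h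
    exact (mul_eq_zero.1 h').resolve_left (sub_ne_zero.2 hg')
  have hcyc : π.IsCycle := by
    refine ⟨1, (hmoved 1).2 one_ne_zero, fun y hy => ?_⟩
    obtain ⟨k, hk⟩ := hg (Units.mk0 y ((hmoved y).1 hy))
    refine ⟨k, ?_⟩
    show ((MulAction.toPermHom (ZMod p)ˣ (ZMod p)) g ^ k) 1 = y
    rw [← map_zpow, MulAction.toPermHom_apply, MulAction.toPerm_apply, Units.smul_def, smul_eq_mul,
      mul_one]
    exact congrArg Units.val hk
  have hsupp : π.support = Finset.univ.erase 0 := by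
    ext y
    rw [Perm.mem_support, hmoved]
    simp
  show Perm.sign π = -1
  rw [hcyc.sign, hsupp, Finset.card_erase_of_mem (Finset.mem_univ _), Finset.card_univ, ZMod.card]
  obtain ⟨k, hk⟩ := (Fact.out : p.Prime).odd_of_ne_two hp
  rw [hk, Nat.add_sub_cancel, pow_mul]
  norm_num

theorem eps_prime_pow_eq {p : ℕ} [Fact p.Prime] (a : (ZMod p)ˣ) : a ^ p = a :=
  Units.ext (by rw [Units.val_pow_eq_pow_val, ZMod.pow_card])

/-- The sign of an element of order dividing an odd prime. -/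
theorem sign_eq_one_of_pow {α : Type*} [Fintype α] [DecidableEq α] {p : ℕ} [Fact p.Prime]
    (hp : p ≠ 2) {x : Perm α} (hx : x ^ p = 1) : Perm.sign x = 1 := by
  obtain ⟨k, hk⟩ := (Fact.out : p.Prime).odd_of_ne_two hp
  have h := congrArg Perm.sign hx
  rw [map_pow, map_one, hk, pow_add, pow_mul, Int.units_pow_two, one_pow, one_mul, pow_one] at h
  exact h

theorem units_zmod_three : ∀ x : (ZMod 3)ˣ, x * x = 1 := by decide

theorem shX_pow {p : ℕ} (t : ZMod p) (n : ℕ) : shX t ^ n = shX ((n : ZMod p) * t) := by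
  induction n with
  | zero => exact Equiv.ext fun x => by simp
  | succ n ih =>
    rw [pow_succ, ih]
    exact Equiv.ext fun x => by simp [Perm.mul_apply]; ring

section Main

variable {D R Y : Type*} {p : ℕ} [Fintype D] [DecidableEq D] [Fintype R] [DecidableEq R]
  [Subsingleton R] [Fintype Y] [DecidableEq Y] [Fact p.Prime]
  (e : ((ZMod p ⊕ D) × ZMod p) ⊕ R ≃ Y)

/-- The base group. -/
def base : Subgroup (alternatingGroup Y) where
  carrier := {x | ∃ f, (x : Perm Y) = trY e f}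
  one_mem' := ⟨0, by rw [trY, tr_zero, map_one]; rfl⟩
  mul_mem' := fun {x y} ⟨f, hf⟩ ⟨g, hg⟩ => ⟨f + g, by rw [Subgroup.coe_mul, hf, hg, trY_add]⟩
  inv_mem' := fun {x} ⟨f, hf⟩ => ⟨0 - f, by
    rw [trY_sub, Subgroup.coe_inv, hf]
    show (trY e f)⁻¹ = trY e 0 * (trY e f)⁻¹
    rw [show trY e 0 = 1 by rw [trY, tr_zero, map_one], one_mul]⟩

/-- The base group extended by the shift of the first `p` blocks. -/
def baseShift : Subgroup (alternatingGroup Y) where
  carrier := {x | ∃ f k, (x : Perm Y) = pm e (aff f 1 (cad k))}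
  one_mem' := ⟨0, 0, by rw [cad_zero, aff_one, map_one]; rfl⟩
  mul_mem' := fun {x y} ⟨f, k, hf⟩ ⟨g, l, hg⟩ => ⟨fun b => g b + f (cad l b), k + l, by
    rw [Subgroup.coe_mul, hf, hg, ← map_mul, aff_mul, cad_add]
    congr 2 <;> funext b <;> simp⟩
  inv_mem' := fun {x} ⟨f, k, hf⟩ => ⟨fun b => -f (cad (-k) b), -k, by
    rw [Subgroup.coe_inv, hf, ← map_inv]
    congr 1
    refine inv_eq_of_mul_eq_one_right (Equiv.ext fun ⟨b, i⟩ => ?_)
    rcases b with j | d <;> simp [Perm.mul_apply]⟩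

/-- The regular block times the rest of the base group. -/
def plane : Subgroup (alternatingGroup Y) where
  carrier := {x | ∃ f k, (∀ j, f (Sum.inl j) = f (Sum.inl 0)) ∧ (x : Perm Y) = pm e (aff f 1 (cad k))}
  one_mem' := ⟨0, 0, fun _ => rfl, by rw [cad_zero, aff_one, map_one]; rfl⟩
  mul_mem' := fun {x y} ⟨f, k, hc, hf⟩ ⟨g, l, hd, hg⟩ => ⟨fun b => g b + f (cad l b), k + l,
    fun j => by simp only [cad_inl]; rw [hd j, hc (j + l), hc (0 + l)], by
    rw [Subgroup.coe_mul, hf, hg, ← map_mul, aff_mul, cad_add]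
    congr 2 <;> funext b <;> simp⟩
  inv_mem' := fun {x} ⟨f, k, hc, hf⟩ => ⟨fun b => -f (cad (-k) b), -k,
    fun j => by simp only [cad_inl]; rw [hc (j + -k), hc (0 + -k)], by
    rw [Subgroup.coe_inv, hf, ← map_inv]
    congr 1
    refine inv_eq_of_mul_eq_one_right (Equiv.ext fun ⟨b, i⟩ => ?_)
    rcases b with j | d <;> simp [Perm.mul_apply]⟩

theorem plane_le : plane e ≤ baseShift e := fun _ ⟨f, k, _, h⟩ => ⟨f, k, h⟩

theorem base_le : base e ≤ baseShift e := fun x ⟨f, h⟩ => ⟨f, 0, by rw [h, cad_zero]; rfl⟩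

variable {e}

theorem even_trY (hp : p ≠ 2) (f : ZMod p ⊕ D → ZMod p) : trY e f ∈ alternatingGroup Y :=
  Perm.mem_alternatingGroup.2 (sign_eq_one_of_pow hp (trY_pow_prime e f))

theorem centralizer_base_le (hp : p ≠ 2) :
    Subgroup.centralizer (base e : Set (alternatingGroup Y)) ≤ base e := by
  intro g hg
  have hmem : ∀ f, (g : Perm Y) * trY e f * (g : Perm Y)⁻¹ = trY e f := fun f => by
    rw [mul_inv_eq_iff_eq_mul]
    exact (congrArg Subtype.val
      (Subgroup.mem_centralizer_iff.1 hg ⟨_, even_trY hp f⟩ ⟨f, rfl⟩)).symm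
  obtain ⟨f, u, σ, hg'⟩ := exists_aff_of_normalizes e (g := (g : Perm Y)) fun b => ⟨_, hmem _⟩
  have hkey : ∀ b, σ b = b ∧ u b = 1 := by
    intro b
    have h := hmem (Pi.single b 1)
    rw [hg', trY, ← map_inv, ← map_mul, ← map_mul, conj_tr] at h
    have h' := congrFun (tr_injective (pm_injective e h)) (σ b)
    simp only [Equiv.symm_apply_apply, Pi.single_eq_same, mul_one] at h'
    by_cases hσ : σ b = b
    · refine ⟨hσ, Units.ext ?_⟩
      rw [h', hσ, Pi.single_eq_same]; rfl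
    · rw [Pi.single_eq_of_ne hσ] at h'
      exact absurd h' (u b).ne_zero
  obtain rfl : σ = 1 := Equiv.ext fun b => (hkey b).1
  obtain rfl : u = 1 := funext fun b => (hkey b).2
  exact ⟨f, hg'⟩

theorem centralizer_plane_le (hp : p ≠ 2) :
    Subgroup.centralizer (plane e : Set (alternatingGroup Y)) ≤ plane e := by
  intro g hg
  have hcomm : ∀ (f : ZMod p ⊕ D → ZMod p) (k : ZMod p), (∀ j, f (Sum.inl j) = f (Sum.inl 0)) →
      pm e (aff f 1 (cad k)) ∈ alternatingGroup Y → ∀ y,
        (g : Perm Y) (pm e (aff f 1 (cad k)) y) = pm e (aff f 1 (cad k)) ((g : Perm Y) y) := by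
    intro f k hc hmem y
    have h := congrArg Subtype.val (Subgroup.mem_centralizer_iff.1 hg ⟨_, hmem⟩ ⟨f, k, hc, rfl⟩)
    exact (Equiv.congr_fun h y).symm
  set f₁ : ZMod p ⊕ D → ZMod p := Sum.elim (fun _ => 1) fun _ => 0 with hf₁
  have hshift : pm e (aff (0 : ZMod p ⊕ D → ZMod p) 1 (cad 1)) ∈ alternatingGroup Y := by
    refine Perm.mem_alternatingGroup.2 (sign_eq_one_of_pow hp ?_)
    rw [← map_pow]
    show pm e (bl (cad 1) ^ p) = 1
    rw [← map_pow, ← cad_natCast, ZMod.natCast_self, cad_zero, map_one, map_one]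
  have hA : ∀ y, (g : Perm Y) (pm e (aff f₁ 1 1) y) = pm e (aff f₁ 1 1) ((g : Perm Y) y) := by
    have h := hcomm f₁ 0 (fun j => rfl) (by rw [cad_zero]; exact even_trY hp f₁)
    rwa [cad_zero] at h
  have hB := hcomm (0 : ZMod p ⊕ D → ZMod p) 1 (fun j => rfl) hshift
  have hC : ∀ d y, (g : Perm Y) (pm e (aff (Pi.single (Sum.inr d) 1) 1 1) y) =
      pm e (aff (Pi.single (Sum.inr d) 1) 1 1) ((g : Perm Y) y) := fun d => by
    have h := hcomm (Pi.single (Sum.inr d) 1) 0 (fun j => by simp)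
      (by rw [cad_zero]; exact even_trY hp _)
    rwa [cad_zero] at h
  obtain ⟨j₀, i₀, h00⟩ : ∃ j₀ i₀ : ZMod p,
      (g : Perm Y) (e (Sum.inl (Sum.inl 0, 0))) = e (Sum.inl (Sum.inl j₀, i₀)) := by
    obtain ⟨z, hz⟩ := e.surjective ((g : Perm Y) (e (Sum.inl (Sum.inl 0, 0))))
    have h := hA (e (Sum.inl (Sum.inl 0, 0)))
    rcases z with ⟨j | d, i⟩ | r
    · exact ⟨j, i, hz.symm⟩
    all_goals
      exfalso
      rw [← hz, pm_inl] at h
      simp [f₁] at h
      rw [hz] at h
      simp [f₁] at h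
  have hpoint : ∀ j i : ZMod p, (g : Perm Y) (e (Sum.inl (Sum.inl j, i))) =
      e (Sum.inl (Sum.inl (j + j₀), i + i₀)) := by
    intro j
    refine zmod_cases (motive := fun j => ∀ i, (g : Perm Y) (e (Sum.inl (Sum.inl j, i))) =
      e (Sum.inl (Sum.inl (j + j₀), i + i₀))) (fun i => ?_) (fun j hj i => ?_) j
    · refine zmod_cases (motive := fun i => (g : Perm Y) (e (Sum.inl (Sum.inl 0, i))) =
        e (Sum.inl (Sum.inl (0 + j₀), i + i₀))) ?_ (fun i hi => ?_) i
      · rw [h00, zero_add, zero_add]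
      · have h := hA (e (Sum.inl (Sum.inl 0, i)))
        rw [pm_inl, hi, pm_inl] at h
        simpa [f₁, add_right_comm] using h
    · have h := hB (e (Sum.inl (Sum.inl j, i)))
      rw [pm_inl, hj, pm_inl] at h
      simpa [add_right_comm] using h
  have hd : ∀ d, ∃ a : ZMod p, ∀ i : ZMod p,
      (g : Perm Y) (e (Sum.inl (Sum.inr d, i))) = e (Sum.inl (Sum.inr d, i + a)) := by
    intro d
    obtain ⟨a, ha⟩ : ∃ a : ZMod p,
        (g : Perm Y) (e (Sum.inl (Sum.inr d, 0))) = e (Sum.inl (Sum.inr d, a)) := by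
      obtain ⟨z, hz⟩ := e.surjective ((g : Perm Y) (e (Sum.inl (Sum.inr d, 0))))
      have h := hC d (e (Sum.inl (Sum.inr d, 0)))
      rcases z with ⟨b, a⟩ | r
      · by_cases hb : b = Sum.inr d
        · exact ⟨a, by rw [← hz, hb]⟩
        · exfalso
          rw [← hz, pm_inl, pm_inl, show aff (Pi.single (Sum.inr d) 1) 1 1 (b, a) = (b, a) by
            simp [Pi.single_eq_of_ne hb], hz] at h
          simp at h
      · exfalso
        rw [← hz, pm_inr, hz] at h
        simp at h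
    refine ⟨a, fun i => zmod_cases (motive := fun i =>
      (g : Perm Y) (e (Sum.inl (Sum.inr d, i))) = e (Sum.inl (Sum.inr d, i + a))) ?_ (fun i hi => ?_) i⟩
    · rw [ha, zero_add]
    · have h := hC d (e (Sum.inl (Sum.inr d, i)))
      rw [pm_inl, hi, pm_inl] at h
      simpa [add_right_comm] using h
  choose a ha using hd
  refine ⟨Sum.elim (fun _ => i₀) a, j₀, fun j => rfl, Equiv.ext ?_⟩
  have hinl : ∀ x, (g : Perm Y) (e (Sum.inl x)) =
      e (Sum.inl (aff (Sum.elim (fun _ => i₀) a) 1 (cad j₀) x)) := by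
    rintro ⟨j | d, i⟩
    · rw [hpoint]; simp
    · rw [ha]; simp
  refine forall_point e (fun x => by rw [hinl, pm_inl]) fun r => ?_
  rw [pm_inr]
  obtain ⟨z, hz⟩ := e.surjective ((g : Perm Y) (e (Sum.inr r)))
  rcases z with x | r'
  · exfalso
    obtain ⟨x', hx'⟩ := (aff (Sum.elim (fun _ => i₀) a) 1 (cad j₀)).surjective x
    rw [← hx', ← hinl] at hz
    exact Sum.inl_ne_inr (e.injective ((g : Perm Y).injective hz))
  · rw [← hz, Subsingleton.elim r' r]

/-- Any two shifts in a block permutation group generated by three cycles. -/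
theorem alt_le_of_normal_shift (hp : p ≠ 2) {A : Subgroup (Perm (ZMod p ⊕ D))} [A.Normal]
    (hc : cad (D := D) (1 : ZMod p) ∈ A) : alternatingGroup (ZMod p ⊕ D) ≤ A := by
  have h2 : (2 : ZMod p) ≠ 0 := fun h => by
    have h3 : ((2 : ℕ) : ZMod p) = 0 := by exact_mod_cast h
    rw [ZMod.natCast_eq_zero_iff] at h3
    exact hp ((Nat.prime_dvd_prime_iff_eq Fact.out Nat.prime_two).1 h3)
  set s : Perm (ZMod p ⊕ D) := Equiv.swap (Sum.inl 0) (Sum.inl 1) with hs
  set c := cad (D := D) (1 : ZMod p)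
  have hk : s * c * s⁻¹ * c⁻¹ ∈ A := mul_mem (Subgroup.Normal.conj_mem inferInstance c hc s) (inv_mem hc)
  have hcs : c * s⁻¹ * c⁻¹ = Equiv.swap (Sum.inl 1) (Sum.inl 2) := by
    rw [hs, Equiv.swap_inv, mul_inv_eq_iff_eq_mul, Equiv.mul_swap_eq_swap_mul, cad_inl, cad_inl,
      zero_add, one_add_one_eq_two]
  have hk3 : (s * c * s⁻¹ * c⁻¹).IsThreeCycle := by
    rw [show s * c * s⁻¹ * c⁻¹ = s * (c * s⁻¹ * c⁻¹) by group, hcs, hs, Equiv.swap_comm]
    refine Perm.isThreeCycle_swap_mul_swap_same (by simp) (by simp [eq_comm (a := (1 : ZMod p))]; intro h; exact one_ne_zero (by linear_combination h)) ?_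
    simp only [ne_eq, Sum.inl.injEq]
    exact fun h => h2 h.symm
  rw [← Equiv.Perm.closure_three_cycles_eq_alternating, Subgroup.closure_le]
  intro t ht
  obtain ⟨x, hx⟩ := isConj_iff.1 (Perm.isConj_iff_cycleType_eq.2
    ((Perm.IsThreeCycle.cycleType hk3).trans (Perm.IsThreeCycle.cycleType ht).symm))
  rw [← hx]
  exact Subgroup.Normal.conj_mem inferInstance _ hk x

/-- In an invariant saturated subsystem on the Sylow subgroup every element of its normalizer
acts by a map of the subsystem. -/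
theorem normalizer_le_autSub (hp : p ≠ 2) {Q : Subgroup (Perm (ZMod p ⊕ D))}
    (hQc : cad (D := D) (1 : ZMod p) ∈ Q)
    (S : Sylow p (alternatingGroup Y))
    (hS : ∀ x : alternatingGroup Y,
      x ∈ (S : Subgroup (alternatingGroup Y)) ↔ (x : Perm Y) ∈ (wr Q).map (pm e))
    (E : Cfsg.FusionSystem (S : Subgroup (alternatingGroup Y))) (hE : E.IsSaturated p)
    (hinv : E.IsInvariantIn (Cfsg.groupFusionSystem (S : Subgroup (alternatingGroup Y)))) :
    Subgroup.normalizer ((S : Subgroup (alternatingGroup Y)) : Set (alternatingGroup Y)) ≤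
      autSub E (S : Subgroup (alternatingGroup Y)) := by
  classical
  have hprime := (Fact.out : p.Prime)
  have hFs : (Cfsg.groupFusionSystem (S : Subgroup (alternatingGroup Y))).IsSaturated p := CfsgLib.Fusion.isSaturated_group S
  -- the three subgroups
  have hcad : ∀ k : ZMod p, cad (D := D) k ∈ Q := fun k => by
    rw [← ZMod.natCast_zmod_val k, cad_natCast]; exact pow_mem hQc _
  have hBS : base e ≤ (S : Subgroup (alternatingGroup Y)) := fun x ⟨f, hf⟩ =>
    (hS x).2 (hf ▸ Subgroup.mem_map_of_mem _ (tr_mem_wr f))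
  have hTS : baseShift e ≤ (S : Subgroup (alternatingGroup Y)) := fun x ⟨f, k, hf⟩ =>
    (hS x).2 (hf ▸ Subgroup.mem_map_of_mem _ ⟨f, _, hcad k, rfl⟩)
  have hPS : plane e ≤ (S : Subgroup (alternatingGroup Y)) := (plane_le e).trans hTS
  have haffB : ∀ (g : alternatingGroup Y) f u σ, (g : Perm Y) = pm e (aff f u σ) →
      g ∈ Subgroup.normalizer (base e : Set (alternatingGroup Y)) := by
    intro g f u σ hg
    refine CfsgLib.Fusion.conj_le_of_subset fun x hx => ?_
    obtain ⟨f', hf'⟩ := hx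
    refine ⟨fun b => (u (σ.symm b) : ZMod p) * f' (σ.symm b), ?_⟩
    rw [Subgroup.coe_mul, Subgroup.coe_mul, Subgroup.coe_inv, hg, hf', trY, ← map_inv, ← map_mul,
      ← map_mul, conj_tr]
    rfl
  set KB : Subgroup (Perm Y) := (autSub E (base e)).map (alternatingGroup Y).subtype with hKB
  have hconjB : ∀ z f u σ, z = pm e (aff f u σ) → Perm.sign z = 1 → ∀ x ∈ KB, z * x * z⁻¹ ∈ KB := by
    rintro z f u σ hz hz1 _ ⟨k, hk, rfl⟩
    exact ⟨⟨z, Perm.mem_alternatingGroup.2 hz1⟩ * k * ⟨z, Perm.mem_alternatingGroup.2 hz1⟩⁻¹,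
      conj_mem_autSub hinv hBS (haffB _ f u σ hz) hk, rfl⟩
  have hSB : ∀ f σ, σ ∈ Q → Perm.sign (pm e (aff f 1 σ)) = 1 → pm e (aff f 1 σ) ∈ KB := by
    intro f σ hσ h1
    exact ⟨⟨_, Perm.mem_alternatingGroup.2 h1⟩, autSub_of_mem hBS
      ((hS _).2 (Subgroup.mem_map_of_mem _ ⟨f, σ, hσ, rfl⟩)) (haffB _ f 1 σ rfl), rfl⟩
  -- block permutations with trivial product
  let A : Subgroup (Perm (ZMod p ⊕ D)) :=
    { carrier := {σ | ∃ v : ZMod p ⊕ D → (ZMod p)ˣ, ∏ b, v b = 1 ∧ pm e (aff 0 v σ) ∈ KB}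
      one_mem' := ⟨1, by simp, by rw [aff_one, map_one]; exact one_mem _⟩
      mul_mem' := by
        rintro σ τ ⟨v, hv, hv'⟩ ⟨w, hw, hw'⟩
        refine ⟨fun b => v (τ b) * w b, ?_, ?_⟩
        · rw [Finset.prod_mul_distrib, Equiv.prod_comp τ v, hv, hw, one_mul]
        · have h := mul_mem hv' hw'
          rw [← map_mul, aff_mul] at h
          convert h using 3
          funext b; simp
      inv_mem' := by
        rintro σ ⟨v, hv, hv'⟩
        refine ⟨fun b => (v (σ⁻¹ b))⁻¹, ?_, ?_⟩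
        · rw [Finset.prod_inv_distrib, Equiv.prod_comp σ⁻¹ v, hv, inv_one]
        · have h := inv_mem hv'
          rw [← map_inv] at h
          convert h using 2
          refine (inv_eq_of_mul_eq_one_right (Equiv.ext fun x => ?_)).symm
          simp only [Perm.mul_apply, Perm.one_apply, mu_apply, aff_apply, Pi.zero_apply, Function.comp_apply, Equiv.symm_apply_apply, Perm.inv_def, Units.val_mul, Pi.one_apply, Units.val_one, add_zero, one_mul, zero_add, mul_assoc, Units.inv_mul_cancel_left, Units.mul_inv_cancel_left, Equiv.apply_symm_apply, Prod.mk.eta] }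
  obtain ⟨a₀, ha₀⟩ := exists_eps_neg p hp
  obtain ⟨b₀⟩ : Nonempty (ZMod p ⊕ D) := ⟨Sum.inl 0⟩
  have hAn : A.Normal := ⟨fun σ hσ τ => by
    obtain ⟨v, hv, hv'⟩ := hσ
    obtain ⟨w, hw⟩ : ∃ w : ZMod p ⊕ D → (ZMod p)ˣ, Perm.sign (pm e (aff 0 w τ)) = 1 := by
      rcases Int.units_eq_one_or (Perm.sign τ) with h | h
      · exact ⟨1, by rw [sign_pm, sign_aff_of_ne_two hp, h]; simp⟩
      · exact ⟨Pi.mulSingle b₀ a₀, by
          rw [sign_pm, sign_aff_of_ne_two hp, h, Finset.prod_pi_mulSingle', if_pos (Finset.mem_univ _),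
            ha₀, Int.units_mul_self]⟩
    refine ⟨fun b => w (σ (τ⁻¹ b)) * v (τ⁻¹ b) * (w (τ⁻¹ b))⁻¹, ?_, ?_⟩
    · rw [Finset.prod_mul_distrib, Finset.prod_mul_distrib, Finset.prod_inv_distrib,
        Equiv.prod_comp τ⁻¹ (fun b => w (σ b)), Equiv.prod_comp τ⁻¹ v, Equiv.prod_comp τ⁻¹ w,
        Equiv.prod_comp σ w, hv, mul_one, mul_inv_cancel]
    · have h := hconjB _ 0 w τ rfl hw _ hv'
      rw [← map_inv, ← map_mul, ← map_mul] at h
      convert h using 2
      rw [eq_mul_inv_iff_mul_eq]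
      refine Equiv.ext fun x => ?_
      simp only [Perm.mul_apply, Perm.one_apply, mu_apply, aff_apply, Pi.zero_apply, Function.comp_apply, Equiv.symm_apply_apply, Perm.inv_def, Units.val_mul, Pi.one_apply, Units.val_one, add_zero, one_mul, zero_add, mul_assoc, Units.inv_mul_cancel_left, Units.mul_inv_cancel_left, Equiv.apply_symm_apply, Prod.mk.eta]⟩
  have hsign_bl : ∀ σ : Perm (ZMod p ⊕ D), σ ^ p = 1 → Perm.sign (pm e (bl σ)) = 1 := fun σ h =>
    sign_eq_one_of_pow hp (by rw [← map_pow, ← map_pow, h, map_one, map_one])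
  have hcA : cad (D := D) (1 : ZMod p) ∈ A := by
    refine ⟨1, by simp, hSB 0 _ hQc (hsign_bl _ ?_)⟩
    rw [← cad_natCast, ZMod.natCast_self, cad_zero]
  have halt := alt_le_of_normal_shift hp hcA
  -- multiplications with trivial product
  let L : Subgroup (ZMod p ⊕ D → (ZMod p)ˣ) := KB.comap ((pm e).comp mu)
  have hpair : ∀ (a b : ZMod p ⊕ D) (x : (ZMod p)ˣ), a ≠ b →
      Pi.mulSingle a x * Pi.mulSingle b x⁻¹ ∈ L := by
    intro a b x hab
    obtain ⟨c, hca, hcb⟩ : ∃ c, c ≠ a ∧ c ≠ b := by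
      have h3 : 3 ≤ Fintype.card (ZMod p ⊕ D) := by
        rw [Fintype.card_sum, ZMod.card]
        have := hprime.two_le
        omega
      obtain ⟨c, hc⟩ : ((Finset.univ.erase a).erase b).Nonempty := by
        rw [← Finset.card_pos, Finset.card_erase_of_mem (by simp [hab.symm]),
          Finset.card_erase_of_mem (Finset.mem_univ _), Finset.card_univ]
        omega
      simp at hc
      exact ⟨c, hc.2, hc.1⟩
    have hcomm : ∀ (σ : Perm (ZMod p ⊕ D)), σ.IsThreeCycle → ∀ w : ZMod p ⊕ D → (ZMod p)ˣ,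
        ∏ i, w i = 1 → (fun i => w i * (w (σ⁻¹ i))⁻¹) ∈ L := by
      intro σ hσ w hw
      obtain ⟨v, -, hv⟩ := halt hσ.mem_alternatingGroup
      have hw1 : Perm.sign (pm e (aff 0 w 1)) = 1 := by
        rw [sign_pm, sign_aff_of_ne_two hp, hw]; simp
      have h := mul_mem (hconjB _ 0 w 1 rfl hw1 _ hv) (inv_mem hv)
      rw [← map_inv, ← map_mul, ← map_mul, ← map_inv, ← map_mul] at h
      show pm e (mu _) ∈ KB
      convert h using 2
      rw [eq_mul_inv_iff_mul_eq, eq_mul_inv_iff_mul_eq]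
      refine Equiv.ext fun y => ?_
      simp only [Perm.mul_apply, Perm.one_apply, mu_apply, aff_apply, Pi.zero_apply, Function.comp_apply, Equiv.symm_apply_apply, Perm.inv_def, Units.val_mul, Pi.one_apply, Units.val_one, add_zero, one_mul, zero_add, mul_assoc, Units.inv_mul_cancel_left, Units.mul_inv_cancel_left, Equiv.apply_symm_apply, Prod.mk.eta]
      rw [mul_left_comm ((v y.1 : (ZMod p)ˣ) : ZMod p), Units.inv_mul_cancel_left]
    by_cases hd : ∃ d, d ≠ a ∧ d ≠ b ∧ d ≠ c
    · obtain ⟨d, hda, hdb, hdc⟩ := hd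
      -- `a ↦ b ↦ c ↦ a`
      have hσ : (Equiv.swap b a * Equiv.swap b c).IsThreeCycle :=
        Perm.isThreeCycle_swap_mul_swap_same hab.symm hcb.symm hca.symm
      have h := hcomm _ hσ (Pi.mulSingle a x * Pi.mulSingle d x⁻¹) (by
        simp [Finset.prod_mul_distrib, Finset.prod_pi_mulSingle'])
      convert h using 1
      funext i
      rw [mul_inv_rev, Equiv.swap_inv, Equiv.swap_inv, Perm.mul_apply]
      rcases eq_or_ne i a with rfl | hia
      · simp [Equiv.swap_apply_of_ne_of_ne hca hcb, hab, hda.symm, hca, hcb, hdc.symm]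
      rcases eq_or_ne i b with rfl | hib
      · simp [Equiv.swap_apply_of_ne_of_ne hab hca.symm, hia, hdb.symm, hda.symm]
      rcases eq_or_ne i c with rfl | hic
      · simp [Equiv.swap_apply_of_ne_of_ne hib hia, hdb.symm, hdc.symm, hab.symm, hca, hib]
      simp [Equiv.swap_apply_of_ne_of_ne hib hia, Equiv.swap_apply_of_ne_of_ne hib hic, hia, hib]
    · push Not at hd
      have hcard : Fintype.card (ZMod p ⊕ D) ≤ 3 := by
        rw [← Finset.card_univ]
        refine (Finset.card_le_card (t := {a, b, c}) fun i _ => ?_).trans Finset.card_le_three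
        by_contra hi
        simp at hi
        exact hi.2.2 (hd i hi.1 hi.2.1)
      have hp3 : p = 3 := by
        rw [Fintype.card_sum, ZMod.card] at hcard
        have := hprime.two_le
        omega
      have hx : x * x = 1 := by
        subst hp3
        exact units_zmod_three x
      -- `a ↦ b`, `b ↦ c` reversed
      have hσ : (Equiv.swap a b * Equiv.swap a c).IsThreeCycle :=
        Perm.isThreeCycle_swap_mul_swap_same hab hca.symm hcb.symm
      have h := hcomm _ hσ (Pi.mulSingle a x * Pi.mulSingle c x⁻¹) (by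
        simp [Finset.prod_mul_distrib, Finset.prod_pi_mulSingle'])
      convert h using 1
      funext i
      have hxi : x⁻¹ = x := inv_eq_of_mul_eq_one_left hx
      rw [mul_inv_rev, Equiv.swap_inv, Equiv.swap_inv, Perm.mul_apply]
      rcases eq_or_ne i a with rfl | hia
      · simp [Equiv.swap_apply_of_ne_of_ne hab.symm hcb.symm, hab, hcb.symm, hca.symm, hab.symm]
      rcases eq_or_ne i b with rfl | hib
      · simp [hia, hcb, hca.symm, hxi]
      rcases eq_or_ne i c with rfl | hic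
      · simp [Equiv.swap_apply_of_ne_of_ne hia hib, hia, hib, hca.symm, hxi, hx]
      exact absurd (hd i hia hib) hic
  have hL : ∀ r : ZMod p ⊕ D → (ZMod p)ˣ, ∏ b, r b = 1 → r ∈ L := by
    intro r hr
    have h : r = ∏ b, Pi.mulSingle b (r b) * Pi.mulSingle b₀ (r b)⁻¹ := by
      rw [Finset.prod_mul_distrib, Finset.univ_prod_mulSingle]
      have := map_prod (MonoidHom.mulSingle (fun _ : ZMod p ⊕ D => (ZMod p)ˣ) b₀) (fun b => (r b)⁻¹) Finset.univ
      simp only [MonoidHom.mulSingle_apply, Finset.prod_inv_distrib, hr, inv_one, Pi.mulSingle_one] at this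
      rw [← this, mul_one]
    rw [h]
    refine prod_mem fun b _ => ?_
    rcases eq_or_ne b b₀ with rfl | hb
    · rw [← Pi.mulSingle_mul, mul_inv_cancel, Pi.mulSingle_one]; exact one_mem _
    · exact hpair b b₀ _ hb
  -- the diagonal element of the regular block
  have hlp : ∀ π : Perm (ZMod p × ZMod p), (∀ x y, π (x + y) = π x + π y) →
      ∀ hπ : pm e (lp π) ∈ alternatingGroup Y,
        (⟨_, hπ⟩ : alternatingGroup Y) ∈ Subgroup.normalizer (plane e : Set (alternatingGroup Y)) := by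
    intro π hadd hπ
    refine CfsgLib.Fusion.conj_le_of_subset fun x hx => ?_
    obtain ⟨f, k, hc, hf⟩ := hx
    refine ⟨Sum.elim (fun _ => (π (k, f (Sum.inl 0))).2) fun d => f (Sum.inr d),
      (π (k, f (Sum.inl 0))).1, fun j => rfl, ?_⟩
    rw [Subgroup.coe_mul, Subgroup.coe_mul, Subgroup.coe_inv, hf, ← map_inv, ← map_mul, ← map_mul,
      lp_mul_aff π hadd f hc k, mul_inv_cancel_right]
  set KP : Subgroup (Perm Y) := (autSub E (plane e)).map (alternatingGroup Y).subtype with hKP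
  have hshX_pow : ∀ t : ZMod p, (pm e (lp (D := D) (shX t))) ^ p = 1 := fun t => by
    rw [← map_pow, ← map_pow, shX_pow, ZMod.natCast_self, zero_mul,
      show shX (0 : ZMod p) = 1 from Equiv.ext fun x => by simp, map_one, map_one]
  have hX : ∀ t : ZMod p, pm e (lp (shX t)) ∈ KP := fun t => by
    refine ⟨⟨_, Perm.mem_alternatingGroup.2 (sign_eq_one_of_pow hp (hshX_pow t))⟩,
      autSub_of_mem hPS ((hS _).2 ?_) (hlp _ (shX_map_add t) _), rfl⟩
    show pm e (lp (shX t)) ∈ _
    rw [lp_shX]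
    exact Subgroup.mem_map_of_mem _ (tr_mem_wr _)
  have hturn : pm e (lp (D := D) turn) ∈ alternatingGroup Y := by
    have hY1 : shY (-1 : ZMod p) ^ p = 1 := by
      have h : ∀ n : ℕ, shY (-1 : ZMod p) ^ n = shY (-(n : ZMod p)) := by
        intro n
        induction n with
        | zero => exact Equiv.ext fun x => by simp
        | succ n ih => rw [pow_succ, ih]; exact Equiv.ext fun x => by simp [Perm.mul_apply]; ring
      rw [h, ZMod.natCast_self, neg_zero]
      exact Equiv.ext fun x => by simp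
    refine Perm.mem_alternatingGroup.2 ?_
    rw [turn, map_mul, map_mul, map_mul, map_mul, map_mul, map_mul,
      sign_eq_one_of_pow hp (hshX_pow 1),
      sign_eq_one_of_pow hp (x := pm e (lp (D := D) (shY (-1)))) (by
        rw [← map_pow, ← map_pow, hY1, map_one, map_one]), one_mul, one_mul]
  have hY : ∀ t : ZMod p, pm e (lp (shY t)) ∈ KP := fun t => by
    obtain ⟨k, hk, hk'⟩ := hX (-t)
    refine ⟨⟨_, hturn⟩ * k * ⟨_, hturn⟩⁻¹, conj_mem_autSub hinv hPS (hlp turn (fun x y => ?_) hturn) hk, ?_⟩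
    · simp [turn_apply, Prod.ext_iff]; ring
    · show pm e (lp turn) * (k : Perm Y) * (pm e (lp turn))⁻¹ = _
      rw [show (k : Perm Y) = pm e (lp (shX (-t))) from hk', ← map_inv, ← map_inv, ← map_mul, ← map_mul,
        ← map_mul, ← map_mul, turn_conj, neg_neg]
  have hdg : ∀ a, pm e (lp (D := D) (dg a)) ∈ KP := fun a => by
    rw [dg_eq]
    simp only [map_mul]
    exact mul_mem (mul_mem (mul_mem (hX _) (hY _)) (hX _)) (mul_mem (mul_mem (hX _) (hY _)) (hX _))
  have hdgB : ∀ a, pm e (lp (D := D) (dg a)) ∈ KB := fun a => by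
    obtain ⟨h, hh, hh'⟩ := hdg a
    have hhe : (h : Perm Y) = pm e (lp (dg a)) := hh'
    have hN : h ∈ Subgroup.normalizer (baseShift e : Set (alternatingGroup Y)) := by
      refine CfsgLib.Fusion.conj_le_of_subset fun x hx => ?_
      obtain ⟨f, k, hf⟩ := hx
      refine ⟨Sum.elim (fun j => (a : ZMod p) * f (Sum.inl ((a : ZMod p) * j))) fun d => f (Sum.inr d),
        ((a⁻¹ : (ZMod p)ˣ) : ZMod p) * k, ?_⟩
      rw [Subgroup.coe_mul, Subgroup.coe_mul, Subgroup.coe_inv, hhe, hf, ← map_inv, ← map_mul,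
        ← map_mul, dg_aff, mul_inv_cancel_right]
    have hT := autSub_of_centric S.2 hFs hinv.1 hE (centralizer_plane_le hp) (plane_le e) hTS hN hh
    refine ⟨h, (mem_autSub hBS).2 ⟨haffB h _ _ _ (by rw [hhe, lp_dg]), ?_⟩, hh'⟩
    exact ((mem_autSub hTS).1 hT).2.mono (base_le e)
  -- everything
  intro g hg
  have hgB : g ∈ autSub E (base e) := by
    obtain ⟨f, u, σ, hge⟩ := exists_aff_of_normalizes e (g := (g : Perm Y)) fun b => by
      refine exists_eq_trY e ((hS _).1 ((Subgroup.mem_normalizer_iff.1 hg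
        ⟨trY e (Pi.single b 1), even_trY hp _⟩).1 ((hS _).2 (Subgroup.mem_map_of_mem _ (tr_mem_wr _))))) ?_
      show ((g : Perm Y) * trY e (Pi.single b 1) * (g : Perm Y)⁻¹).support.card < 2 * p
      rw [Perm.card_support_conj, card_support_trY, show (Finset.univ.filter fun c =>
        Pi.single (M := fun _ => ZMod p) b 1 c ≠ 0) = {b} by ext c; simp [Pi.single_apply],
        Finset.card_singleton]
      have := hprime.two_le
      omega
    set a := ∏ b, u b with ha
    set σh : Perm (ZMod p ⊕ D) :=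
      Equiv.sumCongr (MulAction.toPerm a⁻¹ : Perm (ZMod p)) (1 : Perm D) with hσh
    set uh : ZMod p ⊕ D → (ZMod p)ˣ := Sum.elim (fun _ => a) fun _ => 1 with huh
    have hev : Perm.sign σ * eps a = 1 := by
      rw [ha, ← sign_aff_of_ne_two hp f, ← sign_pm e, ← hge]; exact g.2
    have hσ' : Perm.sign (σ * σh⁻¹) = 1 := by
      rw [map_mul, map_inv, hσh, Perm.sign_sumCongr, map_one, mul_one, ← eps_apply, map_inv, inv_inv]
      exact hev
    obtain ⟨v, hv, hv'⟩ := halt (Perm.mem_alternatingGroup.2 hσ')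
    have huhp : ∏ b, uh b = a := by
      rw [huh, Fintype.prod_sum_type]
      simp [eps_prime_pow_eq]
    have hr : (fun b => u b * ((uh b)⁻¹ * (v (σh b))⁻¹)) ∈ L := hL _ (by
      rw [Finset.prod_mul_distrib, Finset.prod_mul_distrib, Finset.prod_inv_distrib,
        Finset.prod_inv_distrib, Equiv.prod_comp σh v, hv, huhp, inv_one, mul_one, ← ha,
        mul_inv_cancel])
    have hf : pm e (aff (f ∘ σ.symm) 1 1) ∈ KB := hSB _ 1 Q.one_mem (sign_eq_one_of_pow hp (trY_pow_prime e _))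
    have hall := mul_mem (mul_mem (mul_mem hf hv') (lp_dg (D := D) a ▸ hdgB a)) hr
    have he2 : (g : Perm Y) = pm e (aff (f ∘ σ.symm) 1 1) * pm e (aff 0 v (σ * σh⁻¹)) *
        pm e (aff 0 uh σh) * pm e (mu fun b => u b * ((uh b)⁻¹ * (v (σh b))⁻¹)) := by
      rw [hge, ← map_mul, ← map_mul, ← map_mul]
      congr 1
      refine Equiv.ext fun x => ?_
      simp only [Perm.mul_apply, Perm.one_apply, mu_apply, aff_apply, Pi.zero_apply, Function.comp_apply, Equiv.symm_apply_apply, Perm.inv_def, Units.val_mul, Pi.one_apply, Units.val_one, add_zero, one_mul, zero_add, mul_assoc, Units.inv_mul_cancel_left, Units.mul_inv_cancel_left, Equiv.apply_symm_apply, Prod.mk.eta]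
      rw [mul_left_comm ((u x.1 : (ZMod p)ˣ) : ZMod p), Units.mul_inv_cancel_left,
        mul_left_comm ((u x.1 : (ZMod p)ˣ) : ZMod p), Units.mul_inv_cancel_left]
    obtain ⟨k, hk, hk'⟩ : (g : Perm Y) ∈ KB := he2 ▸ hall
    exact (Subtype.ext hk' : k = g) ▸ hk
  exact autSub_of_centric S.2 hFs hinv.1 hE (centralizer_base_le hp) hBS le_rfl hg hgB

end Main

end CfsgLib.AltFus
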