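import Cfsg.Agent.Lib.Fusion.Alternating.Sylow

/-!
# No proper closed subgroup in a Sylow subgroup of an alternating group
-/

set_option autoImplicit false
set_option linter.unusedSectionVars false
set_option linter.style.haveILetI false

open Equiv

namespace CfsgLib.AltFus

variable {ι R Y : Type*} {p : ℕ} (e : (ι × ZMod p) ⊕ R ≃ Y)
variable [Fintype ι] [DecidableEq ι] [Fintype R] [DecidableEq R] [Fintype Y] [DecidableEq Y]
  [Fact p.Prime]

theorem isSwap_trY_single {a : ι} (hp : p = 2) :
    Perm.sign (trY e (Pi.single a (1 : ZMod p))) = -1 := by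
  refine Perm.IsSwap.sign_eq (Perm.card_support_eq_two.1 ?_)
  rw [card_support_trY, show (Finset.univ.filter fun b' => Pi.single (M := fun _ => ZMod p) a 1 b' ≠ 0) = {a} by
    ext b'; simp [Pi.single_apply], Finset.card_singleton, one_mul, hp]

/-- An odd permutation commuting with a translation. -/
theorem exists_odd_centralizing (h3 : 3 ≤ Fintype.card ι) (f : ι → ZMod p) :
    ∃ z : Perm Y, Perm.sign z = -1 ∧ z * trY e f * z⁻¹ = trY e f := by
  by_cases hp : p = 2
  · obtain ⟨a⟩ : Nonempty ι := Fintype.card_pos_iff.1 (by omega)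
    refine ⟨trY e (Pi.single a 1), isSwap_trY_single e hp, ?_⟩
    rw [mul_inv_eq_iff_eq_mul, ← trY_add, ← trY_add, add_comm]
  obtain ⟨a, b, hab, hfab⟩ : ∃ a b : ι, a ≠ b ∧ (f a = 0 ↔ f b = 0) := by
    obtain ⟨a, b, hab, h⟩ := Fintype.exists_ne_map_eq_of_card_lt (fun c => decide (f c = 0))
      (by rw [Fintype.card_bool]; omega)
    exact ⟨a, b, hab, decide_eq_decide.1 h⟩
  classical
  let r : ι → (ZMod p)ˣ := fun c => if h : f c = 0 then 1 else Units.mk0 _ h
  let u : ι → (ZMod p)ˣ := Pi.mulSingle a (r b * (r a)⁻¹) * Pi.mulSingle b (r a * (r b)⁻¹)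
  have hprod : ∏ c, u c = 1 := by
    simp only [u, Pi.mul_apply, Finset.prod_mul_distrib, Finset.prod_pi_mulSingle',
      Finset.mem_univ, if_true]
    rw [mul_mul_mul_comm, mul_comm (r b), mul_mul_mul_comm, mul_inv_cancel, mul_inv_cancel, one_mul]
  refine ⟨pm e (aff 0 u (Equiv.swap a b)), ?_, ?_⟩
  · rw [sign_pm, sign_aff_of_ne_two hp, hprod, map_one, mul_one, Perm.sign_swap hab]
  · rw [trY, ← map_inv, ← map_mul, ← map_mul, conj_tr]
    congr 2
    funext c
    rw [Equiv.symm_swap]
    rcases eq_or_ne c a with rfl | hca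
    · rw [Equiv.swap_apply_left]
      by_cases h0 : f c = 0
      · simp [h0, hfab.1 h0]
      · simp [u, r, h0, (not_congr hfab).1 h0, Pi.mulSingle_eq_of_ne hab.symm]
    rcases eq_or_ne c b with rfl | hcb
    · rw [Equiv.swap_apply_right]
      by_cases h0 : f c = 0
      · simp [h0, hfab.2 h0]
      · simp [u, r, h0, (not_congr hfab).2 h0, Pi.mulSingle_eq_of_ne hab]
    rw [Equiv.swap_apply_of_ne_of_ne hca hcb]
    simp [u, Pi.mulSingle_eq_of_ne hca, Pi.mulSingle_eq_of_ne hcb]

/-- An even element of order dividing `p` with the support size of a translation is conjugate to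
it under an even permutation. -/
theorem exists_even_conj (h3 : 3 ≤ Fintype.card ι) {x : Perm Y} (hx : x ^ p = 1) (f : ι → ZMod p)
    (h : x.support.card = (trY e f).support.card) :
    ∃ g : alternatingGroup Y, (g : Perm Y) * x * (g : Perm Y)⁻¹ = trY e f := by
  obtain ⟨c, hc⟩ := isConj_iff.1 (isConj_of_card_support hx (trY_pow_prime e f) h)
  rcases Int.units_eq_one_or (Perm.sign c) with h1 | h1
  · exact ⟨⟨c, Perm.mem_alternatingGroup.2 h1⟩, hc⟩
  · obtain ⟨z, hz, hzf⟩ := exists_odd_centralizing e h3 f
    refine ⟨⟨z * c, Perm.mem_alternatingGroup.2 (by rw [map_mul, hz, h1, Int.units_mul_self])⟩, ?_⟩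
    show z * c * x * (z * c)⁻¹ = _
    rw [show z * c * x * (z * c)⁻¹ = z * (c * x * c⁻¹) * z⁻¹ by group, hc, hzf]

theorem zmod_two_cases : ∀ x : ZMod 2, x ≠ 0 → x = 1 := by decide

theorem aff_swap_sq {α : Type*} [DecidableEq α] {a b : α} (f : α → ZMod 2)
    (h : ∀ c, f (Equiv.swap a b c) = f c) : aff f 1 (Equiv.swap a b) ^ 2 = 1 :=
  Equiv.ext fun x => by
    simp [pow_two, Perm.mul_apply, h, add_assoc, CharTwo.add_self_eq_zero]

theorem sign_eq_of_conj {x y c : Perm Y} (h : c * x * c⁻¹ = y) : Perm.sign x = Perm.sign y := by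
  rw [← h, map_mul, map_mul, map_inv, mul_right_comm, mul_inv_cancel, one_mul]

/-- No nontrivial subgroup closed under fusion is proper. -/
theorem le_of_closed {Q : Subgroup (Perm ι)}
    (hQgen : Q ≤ Subgroup.closure {x : Perm ι | x ∈ Q ∧ x ^ p = 1})
    (h3 : 3 ≤ Fintype.card ι) (hR : Fintype.card R < p)
    (hQ2 : p = 2 → ∃ a b : ι, a ≠ b ∧ Equiv.swap a b ∈ Q)
    {S : Subgroup (alternatingGroup Y)} (hSp : IsPGroup p S)
    (hS : ∀ x : alternatingGroup Y, x ∈ S ↔ (x : Perm Y) ∈ (wr Q).map (pm e))
    {T : Subgroup (alternatingGroup Y)} (hTS : T ≤ S) (hT : T ≠ ⊥)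
    (hcl : ∀ x ∈ T, ∀ g : alternatingGroup Y, g * x * g⁻¹ ∈ S → g * x * g⁻¹ ∈ T) : S ≤ T := by
  classical
  have hp := (Fact.out : p.Prime)
  haveI : Nonempty ι := Fintype.card_pos_iff.1 (by omega)
  -- membership of a translation
  let InT : (ι → ZMod p) → Prop := fun f => ∃ t ∈ T, ((t : alternatingGroup Y) : Perm Y) = trY e f
  have hadd : ∀ f g, InT f → InT g → InT (f + g) := fun f g ⟨s, hs, hs'⟩ ⟨t, ht, ht'⟩ =>
    ⟨s * t, mul_mem hs ht, by rw [trY_add, Subgroup.coe_mul, hs', ht']⟩
  have hsub : ∀ f g, InT f → InT g → InT (f - g) := fun f g ⟨s, hs, hs'⟩ ⟨t, ht, ht'⟩ =>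
    ⟨s * t⁻¹, mul_mem hs (inv_mem ht), by rw [trY_sub, Subgroup.coe_mul, Subgroup.coe_inv, hs', ht']⟩
  have h0 : InT 0 := ⟨1, one_mem T, by rw [trY, tr_zero, map_one]; rfl⟩
  have hmove : ∀ (t : alternatingGroup Y), t ∈ T → (t : Perm Y) ^ p = 1 → ∀ f : ι → ZMod p,
      (t : Perm Y).support.card = (trY e f).support.card → InT f := by
    intro t ht htp f hf
    obtain ⟨g, hg⟩ := exists_even_conj e h3 htp f hf
    refine ⟨g * t * g⁻¹, hcl t ht g ((hS _).2 ?_), hg⟩
    rw [Subgroup.coe_mul, Subgroup.coe_mul, Subgroup.coe_inv, hg]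
    exact Subgroup.mem_map_of_mem _ (tr_mem_wr f)
  have hsame : ∀ f f', InT f → (Finset.univ.filter fun b => f b ≠ 0).card =
      (Finset.univ.filter fun b => f' b ≠ 0).card → InT f' := by
    rintro f f' ⟨t, ht, ht'⟩ hc
    exact hmove t ht (ht' ▸ trY_pow_prime e f) f' (by rw [ht', card_support_trY, card_support_trY, hc])
  have hind : ∀ K : Finset ι,
      (Finset.univ.filter fun b => (if b ∈ K then (1 : ZMod p) else 0) ≠ 0) = K := by
    intro K; ext b; simp
  have hrep : ∀ x : Perm Y, x ^ p = 1 → ∃ K : Finset ι,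
      x.support.card = K.card * p ∧ K.card * p = (trY e fun b => if b ∈ K then 1 else 0).support.card := by
    intro x hx
    obtain ⟨k, hk, hkY⟩ := card_support_le (p := p) hx
    have hkm : k ≤ Fintype.card ι := by
      rw [card_Y e] at hkY
      by_contra hlt
      have := Nat.mul_le_mul_right p (Nat.succ_le_of_lt (not_le.1 hlt))
      rw [Nat.succ_mul, mul_comm (Fintype.card ι)] at this
      omega
    obtain ⟨K, -, hK⟩ := Finset.exists_subset_card_eq (n := k)
      (by rw [Finset.card_univ]; exact hkm : k ≤ (Finset.univ : Finset ι).card)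
    exact ⟨K, hK ▸ hk, by rw [card_support_trY, hind]⟩
  -- a seed
  obtain ⟨K, hKne, hK⟩ : ∃ K : Finset ι, K.Nonempty ∧ InT fun b => if b ∈ K then 1 else 0 := by
    haveI : Nontrivial T := (Subgroup.nontrivial_iff_ne_bot T).2 hT
    obtain ⟨j, hj0, hj⟩ := (hSp.to_le hTS).nontrivial_iff_card.1 ‹_›
    obtain ⟨⟨t, ht⟩, hto⟩ := exists_prime_orderOf_dvd_card' p (G := T) (hj ▸ dvd_pow_self p hj0.ne')
    rw [Subgroup.orderOf_mk, ← Subgroup.orderOf_coe] at hto
    have htp : (t : Perm Y) ^ p = 1 := hto ▸ pow_orderOf_eq_one _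
    obtain ⟨K, hK1, hK2⟩ := hrep _ htp
    refine ⟨K, Finset.nonempty_iff_ne_empty.2 fun h => ?_, hmove t ht htp _ (hK1.trans hK2)⟩
    rw [h, Finset.card_empty, zero_mul, Perm.card_support_eq_zero] at hK1
    rw [hK1, orderOf_one] at hto
    exact hp.ne_one hto.symm
  -- all even translations
  have hall : ∀ f : ι → ZMod p, Perm.sign (trY e f) = 1 → InT f := by
    by_cases h2 : p = 2
    · subst h2
      have hz := zmod_two_cases
      have h11 : (1 : ZMod 2) + 1 = 0 := CharTwo.add_self_eq_zero 1
      obtain ⟨a, b, hab, hpair⟩ : ∃ a b : ι, a ≠ b ∧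
          InT fun c => if c ∈ ({a, b} : Finset ι) then 1 else 0 := by
        by_cases hfull : K = Finset.univ
        · obtain ⟨a, b, hab, hQab⟩ := hQ2 rfl
          set f₁ : ι → ZMod 2 := fun c => if c = a ∨ c = b then 0 else 1 with hf₁
          set f₂ : ι → ZMod 2 := fun c => if c = a ∨ c = b then 1 else 0 with hf₂
          set y := pm e (aff f₁ 1 (Equiv.swap a b)) with hy
          have hy2 : y ^ 2 = 1 := by
            rw [hy, ← map_pow, aff_swap_sq, map_one]
            intro c
            rcases eq_or_ne c a with rfl | hca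
            · simp [f₁]
            rcases eq_or_ne c b with rfl | hcb
            · simp [f₁]
            rw [Equiv.swap_apply_of_ne_of_ne hca hcb]
          have hysupp : y.support.card = (trY e fun c => if c ∈ K then (1 : ZMod 2) else 0).support.card := by
            rw [hy, card_support_pm, card_support_trY, hind, hfull, Finset.card_univ,
              show (aff f₁ 1 (Equiv.swap a b)).support = Finset.univ from ?_]
            · simp [mul_comm]
            ext ⟨c, i⟩
            simp only [Perm.mem_support, Finset.mem_univ, iff_true]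
            rcases eq_or_ne c a with rfl | hca
            · exact aff_moves (by simpa using hab.symm) i
            rcases eq_or_ne c b with rfl | hcb
            · exact aff_moves (by simpa using hab) i
            simp [f₁, Equiv.swap_apply_of_ne_of_ne hca hcb, hca, hcb]
          obtain ⟨g, hg⟩ := exists_even_conj e h3 hy2 _ hysupp
          obtain ⟨t, ht, ht'⟩ := hK
          have hyA : y ∈ alternatingGroup Y := Perm.mem_alternatingGroup.2 (by
            rw [sign_eq_of_conj hg, ← ht']; exact t.2)
          have hgy : g⁻¹ * t * g⁻¹⁻¹ = ⟨y, hyA⟩ := Subtype.ext (by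
            show (g : Perm Y)⁻¹ * (t : Perm Y) * (g : Perm Y)⁻¹⁻¹ = y
            rw [ht', ← hg]; group)
          have hyT : (⟨y, hyA⟩ : alternatingGroup Y) ∈ T :=
            hgy ▸ hcl t ht g⁻¹ (hgy ▸ (hS _).2 (Subgroup.mem_map_of_mem _ ⟨f₁, _, hQab, rfl⟩))
          have hyt : y * trY e (fun c => if c ∈ K then (1 : ZMod 2) else 0) =
              pm e (aff f₂ 1 (Equiv.swap a b)) := by
            rw [hy, trY, ← map_mul, tr, aff_mul, mul_one]
            congr 2
            funext c
            simp only [f₁, f₂, hfull, Finset.mem_univ, if_true, Perm.one_apply, Pi.one_apply,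
              Units.val_one, one_mul]
            split <;> simp [h11]
          have hy'2 : (pm e (aff f₂ 1 (Equiv.swap a b))) ^ 2 = 1 := by
            rw [← map_pow, aff_swap_sq, map_one]
            intro c
            rcases eq_or_ne c a with rfl | hca
            · simp [f₂]
            rcases eq_or_ne c b with rfl | hcb
            · simp [f₂]
            rw [Equiv.swap_apply_of_ne_of_ne hca hcb]
          refine ⟨a, b, hab, hmove (⟨y, hyA⟩ * t) (mul_mem hyT ht) ?_ _ ?_⟩
          · rw [Subgroup.coe_mul, ht', hyt, hy'2]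
          · rw [Subgroup.coe_mul, ht', hyt, card_support_pm, card_support_trY, hind,
              Finset.card_pair hab, show (aff f₂ 1 (Equiv.swap a b)).support =
                ({a, b} : Finset ι) ×ˢ Finset.univ from ?_, Finset.card_product, Finset.card_pair hab,
              Finset.card_univ, ZMod.card]
            ext ⟨c, i⟩
            simp only [Perm.mem_support, Finset.mem_product, Finset.mem_univ, and_true,
              Finset.mem_insert, Finset.mem_singleton]
            rcases eq_or_ne c a with rfl | hca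
            · exact iff_of_true (aff_moves (by simpa using hab.symm) i) (Or.inl rfl)
            rcases eq_or_ne c b with rfl | hcb
            · exact iff_of_true (aff_moves (by simpa using hab) i) (Or.inr rfl)
            simp [f₂, Equiv.swap_apply_of_ne_of_ne hca hcb, hca, hcb]
        · obtain ⟨a, haK⟩ := hKne
          obtain ⟨b, hbK⟩ : ∃ b, b ∉ K := by
            by_contra hne
            exact hfull (Finset.eq_univ_iff_forall.2 fun c => by_contra fun hc => hne ⟨c, hc⟩)
          have hab : a ≠ b := fun h => hbK (h ▸ haK)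
          refine ⟨a, b, hab, ?_⟩
          have hK' : InT fun c => if c ∈ insert b (K.erase a) then 1 else 0 := hsame _ _ hK (by
            rw [hind, hind, Finset.card_insert_of_notMem (by simp [hbK]), Finset.card_erase_of_mem haK,
              Nat.sub_add_cancel (Finset.card_pos.2 ⟨a, haK⟩)])
          convert hadd _ _ hK hK' using 1
          funext c
          simp only [Pi.add_apply, Finset.mem_insert, Finset.mem_singleton, Finset.mem_erase]
          rcases eq_or_ne c a with rfl | hca
          · simp [haK, hab]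
          rcases eq_or_ne c b with rfl | hcb
          · simp [hbK, hca]
          by_cases hc : c ∈ K <;> simp [hca, hcb, hc, h11]
      have hsingle : ∀ c d : ι, ∀ x : ZMod 2,
          InT (Pi.single c x + Pi.single d x) := by
        intro c d x
        rcases eq_or_ne c d with rfl | hcd
        · rw [show Pi.single c x + Pi.single c x = (0 : ι → ZMod 2) from funext fun i => by
            rw [Pi.add_apply, Pi.zero_apply, CharTwo.add_self_eq_zero]]
          exact h0
        by_cases hx : x = 0
        · subst hx; simpa using h0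
        rw [hz x hx]
        refine hsame _ _ hpair ?_
        rw [hind, Finset.card_pair hab, show (Finset.univ.filter fun i =>
          (Pi.single c (1 : ZMod 2) + Pi.single d 1 : ι → ZMod 2) i ≠ 0) = {c, d} from ?_,
          Finset.card_pair hcd]
        ext i
        rcases eq_or_ne i c with rfl | h1 <;> rcases eq_or_ne i d with rfl | h2 <;>
          simp_all [Pi.single_apply]
      intro f hf
      obtain ⟨d⟩ : Nonempty ι := inferInstance
      have hsum : InT (f + Pi.single d (∑ c, f c)) := by
        have e1 : f + Pi.single d (∑ c, f c) = ∑ c, (Pi.single c (f c) + Pi.single d (f c)) := by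
          rw [Finset.sum_add_distrib, Finset.univ_sum_single]
          congr 1
          exact map_sum (AddMonoidHom.single (fun _ : ι => ZMod 2) d) f Finset.univ
        rw [e1]
        exact Finset.sum_induction _ InT hadd h0 fun c _ => hsingle c d (f c)
      by_cases hs : ∑ c, f c = 0
      · rw [hs, Pi.single_zero, add_zero] at hsum
        exact hsum
      · exfalso
        rw [hz _ hs] at hsum
        obtain ⟨t, -, ht⟩ := hsum
        have := Perm.mem_alternatingGroup.1 t.2
        rw [ht, trY_add, map_mul, hf, isSwap_trY_single e rfl, one_mul] at this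
        exact absurd this (by decide)
    · obtain ⟨a, haK⟩ := hKne
      have h12 : (1 : ZMod p) + 1 ≠ 0 := by
        rw [one_add_one_eq_two]
        intro h
        have h' : ((2 : ℕ) : ZMod p) = 0 := by exact_mod_cast h
        rw [ZMod.natCast_eq_zero_iff] at h'
        exact h2 ((Nat.prime_dvd_prime_iff_eq hp Nat.prime_two).1 h')
      have hK' : InT ((fun c => if c ∈ K then 1 else 0) + Pi.single a 1) := hsame _ _ hK (by
        congr 1
        ext c
        rcases eq_or_ne c a with rfl | hca <;> simp_all [Pi.single_apply])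
      have h1 : InT (Pi.single a (1 : ZMod p)) := by
        have := hsub _ _ hK' hK
        rwa [add_sub_cancel_left] at this
      intro f _
      rw [← Finset.univ_sum_single f]
      refine Finset.sum_induction _ InT hadd h0 fun c _ => ?_
      by_cases hc : f c = 0
      · rw [hc, Pi.single_zero]; exact h0
      · refine hsame _ _ h1 ?_
        rw [show (Finset.univ.filter fun i => Pi.single (M := fun _ => ZMod p) a 1 i ≠ 0) = {a} by
            ext i; simp [Pi.single_apply],
          show (Finset.univ.filter fun i => Pi.single (M := fun _ => ZMod p) c (f c) i ≠ 0) = {c} by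
            ext i; simp [Pi.single_apply, hc], Finset.card_singleton, Finset.card_singleton]
  -- elements of order p
  have hord : ∀ x : alternatingGroup Y, x ∈ S → (x : Perm Y) ^ p = 1 → x ∈ T := by
    intro x hx hxp
    obtain ⟨K', hK1, hK2⟩ := hrep _ hxp
    obtain ⟨g, hg⟩ := exists_even_conj e h3 hxp _ (hK1.trans hK2)
    obtain ⟨t, ht, ht'⟩ := hall _ (by rw [← sign_eq_of_conj hg]; exact x.2)
    have e1 : g⁻¹ * t * g⁻¹⁻¹ = x := Subtype.ext (by
      show (g : Perm Y)⁻¹ * (t : Perm Y) * (g : Perm Y)⁻¹⁻¹ = _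
      rw [ht', ← hg]; group)
    exact e1 ▸ hcl t ht g⁻¹ (e1.symm ▸ hx)
  -- generation
  intro x hx
  obtain ⟨_, ⟨f, σ, hσ, rfl⟩, hxe⟩ := (hS x).1 hx
  set T' := T.map (alternatingGroup Y).subtype with hT'
  have hbl : ∀ q ∈ Q, q ^ p = 1 → pm e (bl q) ∈ T' := by
    intro q hq hqp
    have he : Perm.sign (pm e (bl (p := p) q)) = 1 := by
      rw [sign_pm, sign_bl, ← map_pow, hqp, map_one]
    exact ⟨⟨_, Perm.mem_alternatingGroup.2 he⟩,
      hord _ ((hS _).2 (Subgroup.mem_map_of_mem _ (bl_mem_wr hq)))
        (by show pm e (bl q) ^ p = 1; rw [← map_pow, ← map_pow, hqp, map_one, map_one]), rfl⟩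
  have h4 : pm e (bl (p := p) σ) ∈ T' := by
    have hle : Q ≤ T'.comap ((pm e).comp bl) :=
      hQgen.trans ((Subgroup.closure_le _).2 fun q hq => hbl q hq.1 hq.2)
    exact hle hσ
  have h5 : pm e (tr f) ∈ T' := by
    have hs : Perm.sign (trY e f) = 1 := by
      have hx1 := Perm.mem_alternatingGroup.1 x.2
      obtain ⟨t, -, ht⟩ := h4
      have h6 : Perm.sign (pm e (bl (p := p) σ)) = 1 := ht ▸ Perm.mem_alternatingGroup.1 t.2
      rw [← hxe, aff_eq, map_one, mul_one, map_mul, map_mul, h6, one_mul] at hx1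
      exact hx1
    obtain ⟨t, ht, ht'⟩ := hall f hs
    exact ⟨t, ht, ht'⟩
  obtain ⟨t, ht, ht'⟩ := mul_mem h4 h5
  rw [← map_mul, show bl σ * tr f = aff f 1 σ by rw [aff_eq, map_one, mul_one], hxe] at ht'
  exact (Subtype.ext ht' : t = x) ▸ ht

end CfsgLib.AltFus
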