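import Cfsg.Agent.Lib.Fusion.Alternating.Affine

/-!
# Blocks of size `p` inside a finite set, and the normalizer of the block translations
-/

set_option autoImplicit false
set_option linter.unusedSectionVars false

open Equiv

namespace CfsgLib.AltFus

variable {ι R Y : Type*} {p : ℕ} (e : (ι × ZMod p) ⊕ R ≃ Y)

/-- A permutation of the blocks as a permutation of the whole set. -/
def pm : Perm (ι × ZMod p) →* Perm Y :=
  (e.permCongrHom.toMonoidHom.comp (Perm.sumCongrHom (ι × ZMod p) R)).comp
    (MonoidHom.inl (Perm (ι × ZMod p)) (Perm R))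

theorem pm_apply (g : Perm (ι × ZMod p)) (y : Y) :
    pm e g y = e (Sum.map g id (e.symm y)) := by
  simp [pm, Equiv.permCongr_apply]

@[simp]
theorem pm_inl (g : Perm (ι × ZMod p)) (x : ι × ZMod p) :
    pm e g (e (Sum.inl x)) = e (Sum.inl (g x)) := by simp [pm_apply]

@[simp]
theorem pm_inr (g : Perm (ι × ZMod p)) (r : R) : pm e g (e (Sum.inr r)) = e (Sum.inr r) := by
  simp [pm_apply]

theorem pm_injective : Function.Injective (pm e) := fun g h he =>
  Equiv.ext fun x => by
    have := Equiv.congr_fun he (e (Sum.inl x))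
    simpa using this

theorem forall_point {motive : Y → Prop} (hl : ∀ x, motive (e (Sum.inl x)))
    (hr : ∀ r, motive (e (Sum.inr r))) (y : Y) : motive y := by
  obtain ⟨z, rfl⟩ := e.surjective y
  rcases z with x | r
  · exact hl x
  · exact hr r

variable [Fintype ι] [DecidableEq ι] [Fintype R] [DecidableEq R] [Fintype Y] [DecidableEq Y]
  [Fact p.Prime]

theorem sign_pm (g : Perm (ι × ZMod p)) : Perm.sign (pm e g) = Perm.sign g := by
  show Perm.sign (e.permCongr (Equiv.sumCongr g (1 : Perm R))) = _
  rw [Perm.sign_permCongr, Perm.sign_sumCongr, map_one, mul_one]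

theorem support_pm (g : Perm (ι × ZMod p)) :
    (pm e g).support = g.support.map (Function.Embedding.inl.trans e.toEmbedding) := by
  ext y
  refine forall_point e (motive := fun y => y ∈ (pm e g).support ↔ y ∈ g.support.map
    (Function.Embedding.inl.trans e.toEmbedding)) (fun x => ?_) (fun r => ?_) y
  · simp [Perm.mem_support]
  · simp [Perm.mem_support]

theorem card_support_pm (g : Perm (ι × ZMod p)) : (pm e g).support.card = g.support.card := by
  rw [support_pm, Finset.card_map]

/-- Translations inside `Y`. -/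
def trY (f : ι → ZMod p) : Perm Y := pm e (tr f)

theorem trY_pow_prime (f : ι → ZMod p) : trY e f ^ p = 1 := by
  rw [trY, ← map_pow, tr_pow_prime, map_one]

theorem card_support_trY (f : ι → ZMod p) :
    (trY e f).support.card = (Finset.univ.filter fun b => f b ≠ 0).card * p := by
  rw [trY, card_support_pm, card_tr_support]

theorem trY_injective : Function.Injective (trY e) := (pm_injective e).comp tr_injective

theorem trY_add (f g : ι → ZMod p) : trY e (f + g) = trY e f * trY e g := by
  rw [trY, trY, trY, tr_add, map_mul]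

theorem trY_sub (f g : ι → ZMod p) : trY e (f - g) = trY e f * (trY e g)⁻¹ := by
  rw [eq_mul_inv_iff_mul_eq, ← trY_add, sub_add_cancel]

/-- Two elements of order dividing `p` with supports of the same size are conjugate. -/
theorem isConj_of_card_support {x y : Perm Y} (hx : x ^ p = 1) (hy : y ^ p = 1)
    (h : x.support.card = y.support.card) : IsConj x y := by
  rw [Perm.isConj_iff_cycleType_eq]
  have e1 := Perm.cycleType_of_pow_prime_eq_one hx
  have e2 := Perm.cycleType_of_pow_prime_eq_one hy
  have s1 : x.cycleType.card * p = x.support.card := by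
    rw [← Perm.sum_cycleType, e1]; simp
  have s2 : y.cycleType.card * p = y.support.card := by
    rw [← Perm.sum_cycleType, e2]; simp
  rw [e1, e2, Nat.eq_of_mul_eq_mul_right (Fact.out : p.Prime).pos (s1.trans (h.trans s2.symm))]

theorem card_support_le {x : Perm Y} (hx : x ^ p = 1) :
    ∃ k, x.support.card = k * p ∧ k * p ≤ Fintype.card Y := by
  refine ⟨x.cycleType.card, ?_, ?_⟩
  · rw [← Perm.sum_cycleType, Perm.cycleType_of_pow_prime_eq_one hx]; simp
  · refine le_of_eq_of_le ?_ (Finset.card_le_univ x.support)
    rw [← Perm.sum_cycleType, Perm.cycleType_of_pow_prime_eq_one hx]; simp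

theorem zmod_cases {motive : ZMod p → Prop} (h0 : motive 0)
    (hs : ∀ i, motive i → motive (i + 1)) (i : ZMod p) : motive i := by
  rw [← ZMod.natCast_zmod_val i]
  induction i.val with
  | zero => simpa using h0
  | succ k ih => rw [Nat.cast_succ]; exact hs _ ih

/-- The normalizer of the block translations consists of affine permutations. -/
theorem exists_aff_of_normalizes [Subsingleton R] {g : Perm Y}
    (hg : ∀ b : ι, ∃ f : ι → ZMod p, g * trY e (Pi.single b 1) * g⁻¹ = trY e f) :
    ∃ f u σ, g = pm e (aff f u σ) := by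
  classical
  have key : ∀ b : ι, ∃ c : ι, ∃ a : (ZMod p)ˣ,
      g * trY e (Pi.single b 1) * g⁻¹ = trY e (Pi.single c (a : ZMod p)) := by
    intro b
    obtain ⟨f, hf⟩ := hg b
    have h1 : (trY e f).support.card = (trY e (Pi.single b (1 : ZMod p))).support.card := by
      rw [← hf, Perm.card_support_conj]
    rw [card_support_trY, card_support_trY] at h1
    have h2 := Nat.eq_of_mul_eq_mul_right (Fact.out : p.Prime).pos h1
    rw [show (Finset.univ.filter fun b' => Pi.single (M := fun _ => ZMod p) b 1 b' ≠ 0) = {b} by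
      ext b'; simp [Pi.single_apply], Finset.card_singleton] at h2
    obtain ⟨c, hc⟩ := Finset.card_eq_one.1 h2
    have hcf : f c ≠ 0 := (Finset.mem_filter.1 (hc.ge (Finset.mem_singleton_self c))).2
    refine ⟨c, Units.mk0 _ hcf, hf.trans (congrArg (trY e) (funext fun b' => ?_))⟩
    by_cases h : b' = c
    · subst h; simp
    · rw [Pi.single_eq_of_ne h]
      by_contra h'
      exact h (Finset.mem_singleton.1 (hc.le (Finset.mem_filter.2 ⟨Finset.mem_univ _, h'⟩)))
  choose σ₀ u hu using key
  have hinj : Function.Injective σ₀ := by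
    intro b b' hbb
    by_contra hne
    have h2 : g * trY e ((u b : ZMod p) • Pi.single b' 1) * g⁻¹ =
        g * trY e ((u b' : ZMod p) • Pi.single b 1) * g⁻¹ := by
      have hs : ∀ (a : ZMod p) (f : ι → ZMod p), trY e (a • f) = trY e f ^ a.val := fun a f => by
        rw [trY, trY, ← map_pow, ← tr_nsmul]
        congr 2
        funext c
        simp
      rw [hs, hs, ← conj_pow, ← conj_pow, hu, hu, hbb, ← hs, ← hs]
      congr 1
      funext c
      simp [Pi.single_apply]
      split <;> ring
    have h3 := congrFun (trY_injective e (mul_left_cancel (mul_right_cancel h2))) b'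
    simp [Pi.single_eq_of_ne (Ne.symm hne)] at h3
  let σ : Perm ι := Equiv.ofBijective σ₀ (Finite.injective_iff_bijective.1 hinj)
  have hrel : ∀ b y, g (trY e (Pi.single b 1) y) = trY e (Pi.single (σ b) (u b : ZMod p)) (g y) := by
    intro b y
    show _ = trY e (Pi.single (σ₀ b) (u b : ZMod p)) (g y)
    rw [← hu b, Perm.mul_apply, Perm.mul_apply, Perm.coe_inv, Equiv.symm_apply_apply]
  have hbase : ∀ b, ∃ j : ZMod p, g (e (Sum.inl (b, 0))) = e (Sum.inl (σ b, j)) := by
    intro b
    obtain ⟨z, hz⟩ := e.surjective (g (e (Sum.inl (b, 0))))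
    have h1 := hrel b (e (Sum.inl (b, 0)))
    rw [← hz, trY, trY, pm_inl] at h1
    rcases z with ⟨c, j⟩ | r
    · rw [pm_inl] at h1
      by_cases hc : c = σ b
      · exact ⟨j, by rw [← hz, hc]⟩
      · rw [show tr (Pi.single (σ b) (u b : ZMod p)) (c, j) = (c, j) by
          simp [tr_apply, Pi.single_eq_of_ne hc]] at h1
        rw [hz] at h1
        have := Sum.inl_injective (e.injective (g.injective h1))
        simp [tr_apply] at this
    · rw [pm_inr, hz] at h1
      have := Sum.inl_injective (e.injective (g.injective h1))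
      simp [tr_apply] at this
  choose f₀ hf₀ using hbase
  have hinl : ∀ x : ι × ZMod p, g (e (Sum.inl x)) = e (Sum.inl (aff f₀ u σ x)) := by
    rintro ⟨b, i⟩
    refine zmod_cases (motive := fun i => g (e (Sum.inl (b, i))) =
      e (Sum.inl (aff f₀ u σ (b, i)))) ?_ (fun i ih => ?_) i
    · rw [hf₀ b]; simp
    · have h1 := hrel b (e (Sum.inl (b, i)))
      rw [ih, trY, trY, pm_inl, pm_inl] at h1
      rw [show (b, i + 1) = tr (Pi.single b (1 : ZMod p)) (b, i) by simp [tr_apply], h1]
      simp [tr_apply]
      ring
  refine ⟨f₀, u, σ, Equiv.ext (forall_point e (fun x => by rw [hinl, pm_inl]) fun r => ?_)⟩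
  rw [pm_inr]
  obtain ⟨z, hz⟩ := e.surjective (g (e (Sum.inr r)))
  rcases z with x | r'
  · exfalso
    obtain ⟨x', hx'⟩ := (aff f₀ u σ).surjective x
    rw [← hx', ← hinl] at hz
    exact Sum.inl_ne_inr (e.injective (g.injective hz))
  · rw [← hz, Subsingleton.elim r' r]

end CfsgLib.AltFus
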