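import Cfsg.Agent.Lib.Fusion.Alternating.Sylow

/-!
# The regular block of size `p²` inside `p` blocks of size `p`
-/

set_option autoImplicit false
set_option linter.unusedSectionVars false

open Equiv

namespace CfsgLib.AltFus

variable {D : Type*} {p : ℕ}

/-- Shift of the first `p` blocks. -/
def cad (k : ZMod p) : Perm (ZMod p ⊕ D) := Equiv.sumCongr (Equiv.addRight k) (1 : Perm D)

@[simp] theorem cad_inl (k j : ZMod p) : cad (D := D) k (Sum.inl j) = Sum.inl (j + k) := rfl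

@[simp] theorem cad_inr (k : ZMod p) (d : D) : cad (D := D) k (Sum.inr d) = Sum.inr d := rfl

theorem cad_zero : cad (D := D) (0 : ZMod p) = 1 := by
  ext (j | d) <;> simp

theorem cad_add (k l : ZMod p) : cad (D := D) (k + l) = cad k * cad l := by
  ext (j | d) <;> simp [Perm.mul_apply, add_assoc, add_comm k]

theorem cad_natCast (n : ℕ) : cad (D := D) (n : ZMod p) = cad 1 ^ n := by
  induction n with
  | zero => rw [Nat.cast_zero, cad_zero, pow_zero]
  | succ n ih => rw [Nat.cast_succ, cad_add, ih, pow_succ]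

/-- A permutation of `ZMod p × ZMod p` acting on the first `p` blocks. -/
def lp : Perm (ZMod p × ZMod p) →* Perm ((ZMod p ⊕ D) × ZMod p) :=
  ((Equiv.sumProdDistrib (ZMod p) D (ZMod p)).symm.permCongrHom.toMonoidHom.comp
    (Perm.sumCongrHom _ _)).comp (MonoidHom.inl _ (Perm (D × ZMod p)))

@[simp]
theorem lp_inl (π : Perm (ZMod p × ZMod p)) (j i : ZMod p) :
    lp (D := D) π (Sum.inl j, i) = (Sum.inl (π (j, i)).1, (π (j, i)).2) := by
  simp [lp, Equiv.permCongr_apply, Equiv.sumProdDistrib, Prod.map]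

@[simp]
theorem lp_inr (π : Perm (ZMod p × ZMod p)) (d : D) (i : ZMod p) :
    lp π (Sum.inr d, i) = (Sum.inr d, i) := by
  simp [lp, Equiv.permCongr_apply, Equiv.sumProdDistrib]

/-- `(j, i) ↦ (j, i + t j)`. -/
def shX (t : ZMod p) : Perm (ZMod p × ZMod p) where
  toFun x := (x.1, x.2 + t * x.1)
  invFun x := (x.1, x.2 - t * x.1)
  left_inv x := by simp
  right_inv x := by simp

/-- `(j, i) ↦ (j + t i, i)`. -/
def shY (t : ZMod p) : Perm (ZMod p × ZMod p) where
  toFun x := (x.1 + t * x.2, x.2)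
  invFun x := (x.1 - t * x.2, x.2)
  left_inv x := by simp
  right_inv x := by simp

/-- `(j, i) ↦ (a⁻¹ j, a i)`. -/
def dg (a : (ZMod p)ˣ) : Perm (ZMod p × ZMod p) :=
  Equiv.prodCongr (MulAction.toPerm a⁻¹) (MulAction.toPerm a)

@[simp] theorem shX_apply (t : ZMod p) (x : ZMod p × ZMod p) : shX t x = (x.1, x.2 + t * x.1) := rfl

@[simp] theorem shY_apply (t : ZMod p) (x : ZMod p × ZMod p) : shY t x = (x.1 + t * x.2, x.2) := rfl

@[simp] theorem dg_apply (a : (ZMod p)ˣ) (x : ZMod p × ZMod p) :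
    dg a x = (((a⁻¹ : (ZMod p)ˣ) : ZMod p) * x.1, (a : ZMod p) * x.2) := rfl

/-- The quarter turn. -/
def turn : Perm (ZMod p × ZMod p) := shX 1 * shY (-1) * shX 1

theorem turn_apply (x : ZMod p × ZMod p) : turn x = (-x.2, x.1) := by
  simp [turn, Perm.mul_apply]

theorem turn_conj (t : ZMod p) : turn * shX t * turn⁻¹ = shY (-t) := by
  rw [mul_inv_eq_iff_eq_mul]
  refine Equiv.ext fun x => ?_
  simp [Perm.mul_apply, turn_apply]
  ring

theorem dg_eq (a : (ZMod p)ˣ) :
    dg a = (shX (a : ZMod p) * shY (-((a⁻¹ : (ZMod p)ˣ) : ZMod p)) * shX (a : ZMod p)) *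
      (shX (-1) * shY 1 * shX (-1)) := by
  refine Equiv.ext fun ⟨j, i⟩ => ?_
  have h : ((a⁻¹ : (ZMod p)ˣ) : ZMod p) * (a : ZMod p) = 1 := Units.inv_mul a
  simp only [Perm.mul_apply, dg_apply, shX_apply, shY_apply]
  refine Prod.ext ?_ ?_
  · simp only
    linear_combination i * h
  · simp only
    linear_combination ((a : ZMod p) * i - j) * h

theorem shX_map_add (t : ZMod p) (x y : ZMod p × ZMod p) : shX t (x + y) = shX t x + shX t y := by
  simp [Prod.ext_iff]
  ring

theorem lp_shX (t : ZMod p) : lp (D := D) (shX t) =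
    tr (Sum.elim (fun j => t * j) fun _ => 0) := by
  refine Equiv.ext fun ⟨b, i⟩ => ?_
  rcases b with j | d
  · simp [tr_apply]
  · simp [tr_apply]

theorem lp_dg (a : (ZMod p)ˣ) : lp (D := D) (dg a) =
    aff 0 (Sum.elim (fun _ => a) fun _ => 1)
      (Equiv.sumCongr (MulAction.toPerm a⁻¹ : Perm (ZMod p)) (1 : Perm D)) := by
  refine Equiv.ext fun ⟨b, i⟩ => ?_
  rcases b with j | d
  · simp [Units.smul_def]
  · simp

/-- An additive permutation of the regular block normalizes its translations. -/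
theorem lp_mul_aff (π : Perm (ZMod p × ZMod p)) (hπ : ∀ x y, π (x + y) = π x + π y)
    (f : ZMod p ⊕ D → ZMod p) (hf : ∀ j, f (Sum.inl j) = f (Sum.inl 0)) (k : ZMod p) :
    lp π * aff f 1 (cad k) = aff (Sum.elim (fun _ => (π (k, f (Sum.inl 0))).2) fun d => f (Sum.inr d))
      1 (cad (π (k, f (Sum.inl 0))).1) * lp π := by
  refine Equiv.ext fun ⟨b, i⟩ => ?_
  rcases b with j | d
  · have h := hπ (j, i) (k, f (Sum.inl 0))
    simp only [Prod.mk_add_mk, Prod.ext_iff, Prod.fst_add, Prod.snd_add] at h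
    simp [Perm.mul_apply, hf j, h.1, h.2]
  · simp [Perm.mul_apply]

theorem dg_aff (a : (ZMod p)ˣ) (f : ZMod p ⊕ D → ZMod p) (k : ZMod p) :
    lp (dg a) * aff f 1 (cad k) =
      aff (Sum.elim (fun j => (a : ZMod p) * f (Sum.inl ((a : ZMod p) * j))) fun d => f (Sum.inr d))
        1 (cad (((a⁻¹ : (ZMod p)ˣ) : ZMod p) * k)) * lp (dg a) := by
  refine Equiv.ext fun ⟨b, i⟩ => ?_
  rcases b with j | d
  · simp [Perm.mul_apply, mul_add, ← mul_assoc]
  · simp [Perm.mul_apply]

end CfsgLib.AltFus
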