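import Cfsg.Agent.Lib.Fusion.Alternating.Closed
import Cfsg.Agent.Lib.Fusion.Alternating.Automizer
import Cfsg.Agent.Lib.Fusion.System.SimpleGroupCriterion

/-!
# Simplicity of the `p`-fusion systems of alternating groups
-/

set_option autoImplicit false
set_option linter.unusedSectionVars false
set_option linter.style.haveILetI false

open Equiv
open scoped Pointwise

namespace CfsgLib.AltFus

variable {ι R Y : Type*} {p : ℕ}

theorem pm_trans (e : (ι × ZMod p) ⊕ R ≃ Y) (a : Perm Y) (h : Perm (ι × ZMod p)) :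
    pm (e.trans a) h = a * pm e h * a⁻¹ := by
  rw [eq_mul_inv_iff_mul_eq]
  refine Equiv.ext fun y => ?_
  simp [Perm.mul_apply, pm_apply]

/-- The Sylow subgroup in coordinates. -/
theorem exists_coordinates {D : Type} [Fintype D] [DecidableEq D] [Fintype R] [DecidableEq R]
    [Fintype Y] [DecidableEq Y] [Fact p.Prime] (hR : Fintype.card R < p)
    (e : ((ZMod p ⊕ D) × ZMod p) ⊕ R ≃ Y) (Q : Sylow p (Perm (ZMod p ⊕ D)))
    (S : Sylow p (alternatingGroup Y)) :
    ∃ e' : ((ZMod p ⊕ D) × ZMod p) ⊕ R ≃ Y, ∀ x : alternatingGroup Y,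
      x ∈ (S : Subgroup (alternatingGroup Y)) ↔
        (x : Perm Y) ∈ (wr (Q : Subgroup (Perm (ZMod p ⊕ D)))).map (pm e') := by
  obtain ⟨S₀, hS₀⟩ := exists_sylow_alt e hR Q
  obtain ⟨a, ha⟩ := MulAction.exists_smul_eq (alternatingGroup Y) S₀ S
  refine ⟨e.trans (a : Perm Y), fun x => ?_⟩
  have h1 : x ∈ (S : Subgroup (alternatingGroup Y)) ↔ a⁻¹ * x * a ∈ (S₀ : Subgroup (alternatingGroup Y)) := by
    rw [← ha, Sylow.coe_subgroup_smul, Subgroup.mem_pointwise_smul_iff_inv_smul_mem,
      ← map_inv, MulAut.smul_def, MulAut.conj_apply, inv_inv]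
  rw [h1, hS₀]
  constructor
  · rintro ⟨h, hh, he⟩
    refine ⟨h, hh, ?_⟩
    rw [pm_trans, he, Subgroup.coe_mul, Subgroup.coe_mul, Subgroup.coe_inv]
    group
  · rintro ⟨h, hh, he⟩
    refine ⟨h, hh, ?_⟩
    rw [Subgroup.coe_mul, Subgroup.coe_mul, Subgroup.coe_inv, ← he, pm_trans]
    group

/-- The `p`-fusion system of the alternating group is simple for `p² ≤ n`, `n % p ≤ 1`, `n ≥ 6`. -/
theorem isSimple (n p : ℕ) (hn : 6 ≤ n) [Fact p.Prime] (hnp : p ^ 2 ≤ n) (hb : n % p ≤ 1)
    (S : Sylow p (alternatingGroup (Fin n))) :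
    (Cfsg.groupFusionSystem (S : Subgroup (alternatingGroup (Fin n)))).IsSimple p := by
  classical
  have hp := (Fact.out : p.Prime)
  have hm : p ≤ n / p := (Nat.le_div_iff_mul_le hp.pos).2 (by rw [← pow_two]; exact hnp)
  have hm3 : 3 ≤ n / p := by
    by_cases h2 : p = 2
    · subst h2; omega
    · have := hp.two_le; omega
  have hcard : Fintype.card (ZMod p ⊕ Fin (n / p - p)) = n / p := by
    rw [Fintype.card_sum, ZMod.card, Fintype.card_fin, Nat.add_sub_cancel' hm]
  have hm3' : 3 ≤ Fintype.card (ZMod p ⊕ Fin (n / p - p)) := le_of_le_of_eq hm3 hcard.symm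
  let e : ((ZMod p ⊕ Fin (n / p - p)) × ZMod p) ⊕ Fin (n % p) ≃ Fin n := Fintype.equivOfCardEq (by
    rw [Fintype.card_sum, Fintype.card_prod, hcard, Fintype.card_fin, Fintype.card_fin, ZMod.card,
      mul_comm]
    exact Nat.div_add_mod n p)
  haveI : Subsingleton (Fin (n % p)) := Fin.subsingleton_iff_le_one.2 hb
  have hR : Fintype.card (Fin (n % p)) < p := by rw [Fintype.card_fin]; exact Nat.mod_lt _ hp.pos
  have hcp : cad (D := Fin (n / p - p)) (1 : ZMod p) ^ p = 1 := by
    rw [← cad_natCast, ZMod.natCast_self, cad_zero]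
  obtain ⟨Q, hQ⟩ := (CfsgLib.Fusion.isPGroup_zpowers_of_pow (p := p) (k := 1)
    (a := cad (D := Fin (n / p - p)) (1 : ZMod p)) (by rw [pow_one]; exact hcp)).exists_le_sylow
  have hQc : cad (D := Fin (n / p - p)) (1 : ZMod p) ∈ (Q : Subgroup (Perm _)) :=
    hQ (Subgroup.mem_zpowers _)
  obtain ⟨e', hS⟩ := exists_coordinates hR e Q S
  have hclosed : ∀ T : Subgroup (alternatingGroup (Fin n)),
      T ≤ (S : Subgroup (alternatingGroup (Fin n))) → T ≠ ⊥ →
      (∀ x ∈ T, ∀ g : alternatingGroup (Fin n), g * x * g⁻¹ ∈ (S : Subgroup (alternatingGroup (Fin n))) →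
        g * x * g⁻¹ ∈ T) → (S : Subgroup (alternatingGroup (Fin n))) ≤ T := fun T hTS hT hcl =>
    le_of_closed e' (sylow_perm_generated p _ _ rfl Q) hm3' hR
      (fun h2 => by
        subst h2
        refine ⟨Sum.inl 0, Sum.inl 1, by simp, ?_⟩
        convert hQc using 1
        refine Equiv.ext fun b => ?_
        rcases b with j | d
        · have h11 : (1 : ZMod 2) + 1 = 0 := CharTwo.add_self_eq_zero 1
          by_cases hj : j = 0
          · subst hj; simp [Equiv.swap_apply_def]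
          · rw [zmod_two_cases j hj]; simp [Equiv.swap_apply_def, h11]
        · simp [Equiv.swap_apply_def])
      S.2 hS hTS hT hcl
  have hne : (S : Subgroup (alternatingGroup (Fin n))) ≠ ⊥ := by
    intro h
    have he : Perm.sign (pm e' (bl (p := p) (cad 1))) = 1 := by
      rw [sign_pm, sign_bl, ← map_pow, hcp, map_one]
    have := (hS ⟨_, Perm.mem_alternatingGroup.2 he⟩).2 (Subgroup.mem_map_of_mem _ (bl_mem_wr hQc))
    rw [h, Subgroup.mem_bot] at this
    have h1 := congrArg Subtype.val this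
    rw [Subgroup.coe_one, ← map_one ((pm e').comp bl)] at h1
    have h2 := Equiv.congr_fun (bl_injective (pm_injective e' h1)) (Sum.inl 0)
    simp at h2
  refine CfsgLib.Fusion.isSimple_group_of_closed_automizer S hne hclosed fun E hE hinv => ?_
  by_cases h2 : p = 2
  · subst h2
    intro g hg
    refine CfsgLib.Fusion.autSub_of_mem le_rfl ?_ hg
    exact alt_two_normalizer e' hm3' (sylow_perm_two_normalizer _ _ rfl Q) hS hg
  · exact normalizer_le_autSub h2 hQc S hS E hE hinv

end CfsgLib.AltFus
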