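import Cfsg.Agent.Lib.Fusion.Alternating.Frame
import Cfsg.Agent.Lib.Fusion.Sylow

/-!
# Sylow subgroups of symmetric and alternating groups as wreath products
-/

set_option autoImplicit false
set_option linter.unusedSectionVars false

open Equiv

namespace CfsgLib.AltFus

section Def

variable {ι : Type*} {p : ℕ}

/-- The wreath product of the translations by a group of block permutations. -/
def wr (Q : Subgroup (Perm ι)) : Subgroup (Perm (ι × ZMod p)) where
  carrier := {g | ∃ f : ι → ZMod p, ∃ σ ∈ Q, g = aff f 1 σ}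
  one_mem' := ⟨0, 1, Q.one_mem, aff_one.symm⟩
  mul_mem' := by
    rintro _ _ ⟨f, σ, hσ, rfl⟩ ⟨f', σ', hσ', rfl⟩
    exact ⟨_, σ * σ', Q.mul_mem hσ hσ', by rw [aff_mul]; congr 1; funext b; simp⟩
  inv_mem' := by
    rintro _ ⟨f, σ, hσ, rfl⟩
    refine ⟨fun b => -f (σ⁻¹ b), σ⁻¹, Q.inv_mem hσ, inv_eq_of_mul_eq_one_right ?_⟩
    exact Equiv.ext fun x => by simp [Perm.mul_apply]

theorem tr_mem_wr {Q : Subgroup (Perm ι)} (f : ι → ZMod p) : tr f ∈ wr Q :=
  ⟨f, 1, Q.one_mem, rfl⟩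

theorem bl_mem_wr {Q : Subgroup (Perm ι)} {σ : Perm ι} (h : σ ∈ Q) : bl σ ∈ wr (p := p) Q :=
  ⟨0, σ, h, rfl⟩

theorem aff_mem_wr_iff {Q : Subgroup (Perm ι)} {f : ι → ZMod p} {u : ι → (ZMod p)ˣ} {σ : Perm ι} :
    aff f u σ ∈ wr Q ↔ u = 1 ∧ σ ∈ Q := by
  refine ⟨fun ⟨f', σ', hσ', h⟩ => ?_, fun ⟨hu, hσ⟩ => ⟨f, σ, hσ, hu ▸ rfl⟩⟩
  obtain ⟨-, h2, h3⟩ := aff_inj h
  exact ⟨h2, h3 ▸ hσ'⟩

theorem card_wr [Fintype ι] [Fact p.Prime] (Q : Subgroup (Perm ι)) :
    Nat.card (wr (p := p) Q) = p ^ Fintype.card ι * Nat.card Q := by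
  have hb : Function.Bijective fun x : (ι → ZMod p) × Q =>
      (⟨aff x.1 1 x.2, x.1, x.2, x.2.2, rfl⟩ : wr Q) := by
    refine ⟨fun x y h => ?_, fun ⟨g, f, σ, hσ, hg⟩ => ⟨(f, ⟨σ, hσ⟩), Subtype.ext hg.symm⟩⟩
    obtain ⟨h1, -, h3⟩ := aff_inj (congrArg Subtype.val h)
    exact Prod.ext h1 (Subtype.ext h3)
  rw [← Nat.card_eq_of_bijective _ hb, Nat.card_prod, Nat.card_fun, Nat.card_zmod,
    Nat.card_eq_fintype_card]

end Def

variable {ι R Y : Type*} {p : ℕ} (e : (ι × ZMod p) ⊕ R ≃ Y)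
variable [Fintype ι] [DecidableEq ι] [Fintype R] [DecidableEq R] [Fintype Y] [DecidableEq Y]
  [Fact p.Prime]

theorem card_Y (e : (ι × ZMod p) ⊕ R ≃ Y) :
    Fintype.card Y = p * Fintype.card ι + Fintype.card R := by
  rw [← Fintype.card_congr e, Fintype.card_sum, Fintype.card_prod, ZMod.card, mul_comm]

/-- The wreath product in `Perm Y` is a Sylow subgroup. -/
theorem exists_sylow_wr (hR : Fintype.card R < p) (Q : Sylow p (Perm ι)) :
    ∃ P : Sylow p (Perm Y),
      (P : Subgroup (Perm Y)) = (wr (Q : Subgroup (Perm ι))).map (pm e) := by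
  set H := (wr (Q : Subgroup (Perm ι))).map (pm e) with hH
  have hc : Nat.card H = p ^ (Nat.card (Perm Y)).factorization p := by
    rw [hH, Subgroup.card_map_of_injective (pm_injective e), card_wr, Q.card_eq_multiplicity,
      ← pow_add, Nat.card_perm, Nat.card_perm, Nat.card_eq_fintype_card, Nat.card_eq_fintype_card,
      card_Y e, Nat.factorization_def _ Fact.out, Nat.factorization_def _ Fact.out,
      padicValNat_factorial_mul_add _ hR, padicValNat_factorial_mul, add_comm]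
  exact ⟨Sylow.ofCard H hc, Sylow.coe_ofCard H hc⟩

/-- Every Sylow subgroup of a finite symmetric group is generated by elements of order `p`. -/
theorem sylow_perm_generated (p : ℕ) [Fact p.Prime] : ∀ (n : ℕ) (Y : Type) [Fintype Y] [DecidableEq Y],
    Fintype.card Y = n → ∀ P : Sylow p (Perm Y),
      (P : Subgroup (Perm Y)) ≤
        Subgroup.closure {x : Perm Y | x ∈ (P : Subgroup (Perm Y)) ∧ x ^ p = 1} := by
  intro n
  induction n using Nat.strong_induction_on with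
  | _ n ih =>
  intro Y _ _ hn P
  have hp := (Fact.out : p.Prime)
  rcases Nat.eq_zero_or_pos n with h0 | h0
  · haveI : IsEmpty Y := Fintype.card_eq_zero_iff.1 (hn.trans h0)
    intro x _
    rw [Subsingleton.elim x 1]
    exact one_mem _
  obtain ⟨m, hm⟩ : ∃ m, n / p = m := ⟨_, rfl⟩
  have hmn : m < n := hm ▸ Nat.div_lt_self h0 hp.one_lt
  let e : (Fin m × ZMod p) ⊕ Fin (n % p) ≃ Y := Fintype.equivOfCardEq (by
    rw [Fintype.card_sum, Fintype.card_prod, Fintype.card_fin, Fintype.card_fin, ZMod.card, hn,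
      ← hm, mul_comm]
    exact Nat.div_add_mod n p)
  obtain ⟨Q⟩ : Nonempty (Sylow p (Perm (Fin m))) := inferInstance
  obtain ⟨P₀, hP₀⟩ := exists_sylow_wr e (by rw [Fintype.card_fin]; exact Nat.mod_lt _ hp.pos) Q
  have key : (P₀ : Subgroup (Perm Y)) ≤
      Subgroup.closure {x : Perm Y | x ∈ (P₀ : Subgroup (Perm Y)) ∧ x ^ p = 1} := by
    intro x hx
    rw [hP₀] at hx
    obtain ⟨_, ⟨f, σ, hσ, rfl⟩, rfl⟩ := hx
    rw [aff_eq, map_one, mul_one, map_mul]
    refine mul_mem ?_ (Subgroup.subset_closure ⟨hP₀ ▸ Subgroup.mem_map_of_mem _ (tr_mem_wr f), ?_⟩)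
    · have hg : (Q : Subgroup (Perm (Fin m))) ≤ (Subgroup.closure
          {x : Perm Y | x ∈ (P₀ : Subgroup (Perm Y)) ∧ x ^ p = 1}).comap ((pm e).comp bl) := by
        refine (ih m hmn (Fin m) (Fintype.card_fin m) Q).trans ((Subgroup.closure_le _).2 ?_)
        rintro q ⟨hq, hqp⟩
        exact Subgroup.subset_closure ⟨hP₀ ▸ Subgroup.mem_map_of_mem _ (bl_mem_wr hq),
          by rw [← map_pow, hqp, map_one]⟩
      exact hg hσ
    · rw [← map_pow, tr_pow_prime, map_one]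
  obtain ⟨a, ha⟩ := MulAction.exists_smul_eq (Perm Y) P₀ P
  have hmem : ∀ x, x ∈ (P₀ : Subgroup (Perm Y)) → a * x * a⁻¹ ∈ (P : Subgroup (Perm Y)) := by
    intro x hx
    rw [← ha, Sylow.coe_subgroup_smul]
    exact Subgroup.smul_mem_pointwise_smul _ _ _ hx
  intro y hy
  rw [← ha, Sylow.coe_subgroup_smul] at hy
  obtain ⟨x, hx, rfl⟩ := Subgroup.mem_map.1 hy
  have hle : (P₀ : Subgroup (Perm Y)) ≤ (Subgroup.closure
      {x : Perm Y | x ∈ (P : Subgroup (Perm Y)) ∧ x ^ p = 1}).comap (MulAut.conj a).toMonoidHom := by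
    refine key.trans ((Subgroup.closure_le _).2 ?_)
    rintro q ⟨hq, hqp⟩
    exact Subgroup.subset_closure ⟨hmem q hq, by
      show (MulAut.conj a q) ^ p = 1; rw [← map_pow, hqp, map_one]⟩
  exact hle hx

/-- The Sylow subgroup of the alternating group. -/
theorem exists_sylow_alt (hR : Fintype.card R < p) (Q : Sylow p (Perm ι)) :
    ∃ S : Sylow p (alternatingGroup Y), ∀ x : alternatingGroup Y,
      x ∈ (S : Subgroup (alternatingGroup Y)) ↔ (x : Perm Y) ∈ (wr (Q : Subgroup (Perm ι))).map (pm e) := by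
  obtain ⟨P, hP⟩ := exists_sylow_wr e hR Q
  have h := CfsgLib.Fusion.not_dvd_relIndex_inf_of_normal P (alternatingGroup Y)
  have hp : IsPGroup p ((P : Subgroup (Perm Y)).subgroupOf (alternatingGroup Y)) :=
    (P.2.of_injective ((alternatingGroup Y).subtype.subgroupComap (P : Subgroup (Perm Y)))
      fun a b hab => Subtype.ext (Subtype.ext (congrArg Subtype.val hab :)))
  have hi : ¬ p ∣ ((P : Subgroup (Perm Y)).subgroupOf (alternatingGroup Y)).index := by
    rw [Subgroup.inf_relIndex_right] at h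
    exact h
  refine ⟨hp.toSylow hi, fun x => ?_⟩
  show x ∈ (P : Subgroup (Perm Y)).subgroupOf (alternatingGroup Y) ↔ _
  rw [Subgroup.mem_subgroupOf, hP]

end CfsgLib.AltFus
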